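/-
Elements of prime order in a Sylow torus of rank two; eigenvalues of torus elements.
-/
import Cfsg.Agent.KSG.AltENum
import Cfsg.Agent.KSG.SL2Wt

set_option autoImplicit false

namespace CL.E83
open Module Function Finset CL.Chev CL.AltE CL.SL2Wt
open Matrix hiding zpow_add zpow_mul zpow_sub one_zpow

theorem isEig_conj {G K V : Type*} [Group G] [Field K] [AddCommGroup V] [Module K V] (ρ : G →* End K V) {y g : G}
    {E : Multiset K} (h : IsEig (ρ (y * g * y⁻¹)) E) : IsEig (ρ g) E := fun t => by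
  have e : t • (1 : End K V) - ρ (y * g * y⁻¹) = ρ y * (t • 1 - ρ g) * ρ y⁻¹ := by
    simp only [mul_sub, sub_mul, mul_smul_comm, smul_mul_assoc, mul_one, ← map_mul, mul_inv_cancel, map_one]
  rw [← h t, e, map_mul, map_mul, mul_right_comm, ← map_mul, ← map_mul ρ, mul_inv_cancel, map_one, map_one, one_mul]

variable {ι κ : Type*} [Fintype κ] [DecidableEq κ] {R : RootSys ι κ} {K Γ : Type*} [Field K] [Group Γ]
  {S : StData R K Γ}

theorem isEig_tor {h3 : S.R3} {N : ℕ} (W : WRep h3 N) {y g : Γ} {t : κ → Kˣ} (e : y * g * y⁻¹ = h3.torHom t) :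
    IsEig (W.E g) (univ.val.map fun i => ((uchr t (W.wt i) : Kˣ) : K)) :=
  isEig_conj W.E (y := y) (isEig_of_basis (Pi.basisFun K (Fin N)) _ fun i => by rw [e, Pi.basisFun_apply, W.E_single])

variable [Finite ι] [IsAlgClosed K] {φ : K →+* K} {q : ℕ} {σ : Monoid.End Γ} (A : S.Alg φ q σ)

theorem exists_syl {G : Type*} [Group G] [Finite G] {ψ : G →* Γ} (hψ : Injective ψ)
    (hfix : ∀ y, y ∈ ψ.range ↔ σ y = y) {w : Equiv.Perm ι} (hw : w ∈ R.W) {C : Type*} [Group C]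
    (f : C →* (κ → Kˣ)) (hf : Injective f) (h : ∀ c, R.act w (f c) = f c ^ q) {r a : ℕ} [Fact r.Prime]
    (hC : Nat.card C = r ^ a) (hG : ¬ r ^ (a + 1) ∣ Nat.card G) {x : G} (hx : x ^ r = 1) :
    ∃ y c, y * ψ x * y⁻¹ = A.r3.torHom (f c) ∧ (R.Phi (f c) = ∅ → ∀ u, Commute u x →
      ∃ s, R.act w s = s ^ q ∧ y * ψ u * y⁻¹ = A.r3.torHom s) := by
  obtain ⟨y, hy⟩ := A.exists_conj_fixed_iff hw
  let g : C →* G := (MonoidHom.ofInjective hψ).symm.toMonoidHom.comp ((((MulAut.conj y⁻¹).toMonoidHom.comp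
    A.r3.torHom).comp f).codRestrict _ fun c => (hfix _).2 (by simpa using (hy _).2 (h c)))
  have hg : ∀ c, ψ (g c) = y⁻¹ * A.r3.torHom (f c) * y := fun c =>
    (MonoidHom.apply_ofInjective_symm hψ _).trans (by simp)
  have hi : Injective g := fun c c' e => hf (A.sc (by simpa [hg] using congrArg ψ e))
  have h1 : Nat.card g.range = r ^ a := by rw [← Nat.card_congr (MonoidHom.ofInjective hi).toEquiv, hC]
  obtain ⟨P, hP⟩ := (IsPGroup.of_card h1).exists_le_sylow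
  obtain ⟨n, hn⟩ := IsPGroup.iff_card.1 P.isPGroup'
  have h2 : g.range = P := Subgroup.eq_of_le_of_card_ge hP (by
    rw [h1, hn]
    exact Nat.pow_le_pow_right (Fact.out : r.Prime).pos (Nat.lt_succ_iff.1 (lt_of_not_ge fun l =>
      hG ((pow_dvd_pow r l).trans (hn ▸ Subgroup.card_subgroup_dvd_card _)))))
  obtain ⟨Q, hQ⟩ := (show IsPGroup r (Subgroup.zpowers x) from fun ⟨_, k, hk⟩ => ⟨1, Subtype.ext (by
    subst hk
    change (x ^ k) ^ r ^ 1 = 1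
    rw [pow_one, ← zpow_natCast, ← zpow_mul, mul_comm, zpow_mul, zpow_natCast, hx, one_zpow])⟩).exists_le_sylow
  obtain ⟨b, hb⟩ := MulAction.exists_smul_eq G Q P
  obtain ⟨c, hc⟩ : b * x * b⁻¹ ∈ g.range := by
    rw [h2, ← hb]
    exact Subgroup.smul_mem_pointwise_smul _ (MulAut.conj b) _ (hQ (Subgroup.mem_zpowers x))
  have e : y * ψ b * ψ x * (y * ψ b)⁻¹ = A.r3.torHom (f c) := by
    have := hg c
    rw [hc, map_mul, map_mul, map_inv] at this
    rw [_root_.mul_inv_rev, mul_assoc y, mul_assoc y, ← mul_assoc (_ * _), this]; group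
  refine ⟨_, c, e, fun h0 u hu => ?_⟩
  have h3 := (A.centralizer_torHom (f c)).le (x := y * ψ b * ψ u * (y * ψ b)⁻¹)
    (Subgroup.mem_centralizer_singleton_iff.2 (by rw [← e]; exact ((hu.map ψ).map (MulAut.conj (y * ψ b))).eq))
  rw [h0, S.XS_empty, bot_sup_eq, ← A.r3.range_torHom] at h3
  obtain ⟨s, hs⟩ := h3
  refine ⟨s, (hy s).1 ((hfix _).1 ⟨b * u * b⁻¹, ?_⟩), hs.symm⟩
  rw [hs]; simp [mul_assoc]

theorem exists_pt {G : Type*} [Group G] [Finite G] {ψ : G →* Γ} (hψ : Injective ψ)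
    (hfix : ∀ y, y ∈ ψ.range ↔ σ y = y) {w : Equiv.Perm ι} (hw : w ∈ R.W) {r D : ℕ} [Fact r.Prime]
    (hG : ¬ r ^ 3 ∣ Nat.card G) {U V : κ → ℤ} {i0 i1 : κ} (h0 : U i0 = 1 ∧ V i0 = 0 ∧ U i1 = 0 ∧ V i1 = 1)
    (hU : ∀ i, (U ᵥ* R.coM w) i ≡ U i * q [ZMOD r]) (hV : ∀ i, (V ᵥ* R.coM w) i ≡ V i * q [ZMOD r])
    {Y : Matrix κ κ ℤ} (hY : ((q : Matrix κ κ ℤ) - R.coM w) * Y = D) {z : Kˣ} (hz : orderOf z = r) {x : G}
    (hx : x ^ r = 1) : ∃ y, ∃ a < r, ∃ b < r, y * ψ x * y⁻¹ = A.r3.torHom (fun i => z ^ ((a : ℤ) • U + (b : ℤ) • V) i) ∧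
      (R.Phi (fun i => z ^ ((a : ℤ) • U + (b : ℤ) • V) i) = ∅ → ∀ u, Commute u x → u ^ D = 1) := by
  let f : Subgroup.zpowers z × Subgroup.zpowers z →* (κ → Kˣ) :=
    MonoidHom.mk' (fun c i => c.1.1 ^ U i * c.2.1 ^ V i) fun c d => by
      ext i; simp only [Prod.fst_mul, Prod.snd_mul, Subgroup.coe_mul, mul_zpow, Pi.mul_apply, mul_mul_mul_comm]
  have hr := (Fact.out : r.Prime).pos
  have hf : ∀ c, ∃ a < r, ∃ b < r, f c = fun i => z ^ ((a : ℤ) • U + (b : ℤ) • V) i := fun ⟨⟨_, a, ha⟩, ⟨_, b, hb⟩⟩ => by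
    have h : ∀ a : ℤ, 0 ≤ a % r ∧ a % r < r := fun a => ⟨Int.emod_nonneg _ (by omega), Int.emod_lt_of_pos _ (by omega)⟩
    refine ⟨(a % r).toNat, by have := h a; omega, (b % r).toNat, by have := h b; omega, funext fun i => ?_⟩
    rw [Int.toNat_of_nonneg (h a).1, Int.toNat_of_nonneg (h b).1, Pi.add_apply, Pi.smul_apply, Pi.smul_apply,
      smul_eq_mul, smul_eq_mul, zpow_add, zpow_mul, zpow_mul, ← hz, zpow_mod_orderOf, zpow_mod_orderOf]
    subst ha hb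
    rfl
  obtain ⟨y, c, h1, h2⟩ := exists_syl A hψ hfix hw f (fun c d e => Prod.ext (Subtype.ext (by
      simpa [f, h0] using congrFun e i0)) (Subtype.ext (by simpa [f, h0] using congrFun e i1))) (fun c => by
    obtain ⟨a, -, b, -, e⟩ := hf c
    rw [e, RootSys.act_zpow_const]
    funext i
    rw [Pi.pow_apply, ← zpow_natCast, ← zpow_mul, zpow_eq_zpow_iff_modEq, hz, add_vecMul, smul_vecMul, smul_vecMul]
    simpa [add_mul, mul_assoc] using ((hU i).mul_left a).add ((hV i).mul_left b)) (a := 2)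
    (by rw [Nat.card_prod, Nat.card_zpowers, hz, sq]) hG hx
  obtain ⟨a, ha, b, hb, e⟩ := hf c
  refine ⟨y, a, ha, b, hb, e ▸ h1, fun h u hu => ?_⟩
  obtain ⟨s, h3, h4⟩ := h2 (e ▸ h) u hu
  have h5 : s ^ D = 1 := by
    rw [← matHom_natCast, ← hY, matHom_mul, (RootSys.act_eq_pow_iff w q s).1 h3, map_one]
  refine hψ ((MulAut.conj y).injective ?_)
  rw [map_pow, map_pow, MulAut.conj_apply, h4, ← map_pow, h5, map_one, map_one, map_one]

end CL.E83

namespace CL.E83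
open Module Function Finset CL.Chev CL.AltE CL.SL2Wt
open Matrix hiding zpow_add zpow_mul zpow_sub one_zpow

variable {ι : Type*} {l : ℕ} {R : RootSys ι (Fin l)} {K Γ : Type*} [Field K] [Group Γ]
  {S : StData R K Γ} [Finite ι] [IsAlgClosed K] {φ : K →+* K} {q : ℕ} {σ : Monoid.End Γ} (A : S.Alg φ q σ) {N : ℕ}
  (W : WRep A.r3 N)

theorem exists_alcS {n : ℕ} {θ C : Fin l → ℕ} (T : Tab R W.wt n θ C) {z : Kˣ} (hz : IsPrimitiveRoot (z : K) n)
    {P : ℕ → Bool} (hP : alcAll (List.ofFn fun j => (θ j, C j)) P n 0 = true) {g : Γ} (hg : g ^ n = 1) :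
    ∃ s, P s = true ∧ ∃ y t, y * g * y⁻¹ = A.r3.torHom t ∧ ∀ i, uchr t (W.wt i) = z ^ lk s 16 65535 i := by
  obtain ⟨y, a, c, e, h1, h2⟩ := exists_alc A T.pos hz hg
  obtain ⟨r, hr, hθ⟩ := T.high
  have h3 : ∑ j, θ j * c j ≤ n := by
    have := h1 r hr
    simp only [hθ] at this
    exact_mod_cast this
  have h4 := alcAll_spec θ C T.θpos _ n 0 hP c h3
  rw [zero_add] at h4
  refine ⟨_, h4, y, _, e, fun i => ?_⟩
  rw [lk_sum C c T.col (fun i hi => lt_of_le_of_lt ?_ T.lt) i.2, uchr_zpow_const, ← zpow_natCast,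
    zpow_eq_zpow_iff_modEq, ← (IsPrimitiveRoot.coe_units_iff.1 hz).eq_orderOf]
  · exact dot_modEq h2 (T.wt i)
  · refine le_trans ?_ (Nat.mul_le_mul_right n h3)
    rw [sum_mul]
    exact sum_le_sum fun j _ => Nat.mul_le_mul (Nat.le_mul_of_pos_left _ (T.θpos j)) (T.small j i hi)

end CL.E83
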