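/-
Sums over the weights of the simple modules of `SL₂(3ⁿ)`, and diagonalisable elements.
-/
import Cfsg.Agent.KSG.E83.Syl

set_option autoImplicit false

namespace CL.E83
open Module Function Finset CL.SL2Wt Matrix
open scoped MatrixGroups

/-- the indices of the weights -/
def J (r : ℕ) : Finset ℕ := (range (r + 1)).filter fun j => ¬ 3 ∣ r.choose j

theorem mem_J {r j : ℕ} : j ∈ J r ↔ ¬ 3 ∣ r.choose j := by
  rw [J, mem_filter, mem_range, and_iff_right_iff_imp]
  intro h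
  by_contra c
  exact h (by rw [Nat.choose_eq_zero_of_lt (by omega)]; simp)

theorem mem_J' {r j : ℕ} : j ∈ J r ↔ j % 3 ≤ r % 3 ∧ j / 3 ∈ J (r / 3) := by
  have h : ∀ a < 3, ∀ b < 3, (¬ 3 ∣ a.choose b ↔ b ≤ a) := by decide
  rw [mem_J, mem_J, (Choose.choose_modEq_choose_mod_mul_choose_div_nat (p := 3)).dvd_iff dvd_rfl,
    Nat.prime_three.dvd_mul, not_or, h _ (by omega) _ (by omega)]

/-- a sum -/
noncomputable def sumN (g : ℕ → ℕ) (n : ℕ) : ℕ := Nat.rec 0 (fun i s => Nat.add (g i) s) n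

theorem sumN_eq (g : ℕ → ℕ) (n : ℕ) : sumN g n = ∑ i ∈ range n, g i := by
  induction n with
  | zero => rfl
  | succ n ih => rw [sum_range_succ, ← ih]; exact add_comm (g n) _

/-- a sum over the weights -/
noncomputable def sumW (g : ℕ → ℕ) (n : ℕ) : ℕ → ℕ → ℕ → ℕ :=
  Nat.rec (fun _ e _ => g e) (fun _ ih r e p =>
    sumN (fun j => ih (Nat.div r 3) (Nat.add e (Nat.mul p j)) (Nat.mul p 3)) (Nat.succ (Nat.mod r 3))) n

theorem sumW_eq (g : ℕ → ℕ) (n r e p : ℕ) (hr : r < 3 ^ n) : sumW g n r e p = ∑ j ∈ J r, g (e + p * j) := by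
  induction n generalizing r e p with
  | zero => obtain rfl : r = 0 := by omega
            rfl
  | succ n ih =>
    change sumN (fun j => sumW g n (r / 3) (e + p * j) (p * 3)) (r % 3 + 1) = _
    rw [sumN_eq, sum_congr rfl fun j _ => ih _ _ _ (by omega), ← sum_product']
    refine sum_nbij' (fun x => x.1 + 3 * x.2) (fun j => (j % 3, j / 3)) ?_ ?_ ?_ ?_ ?_
    · rintro ⟨a, b⟩ h
      simp only [mem_product, mem_range] at h
      rw [mem_J', show (a + 3 * b) / 3 = b by omega]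
      exact ⟨by omega, h.2⟩
    · intro j h
      rw [mem_J'] at h
      exact mem_product.2 ⟨mem_range.2 (by omega), h.2⟩
    · rintro ⟨a, b⟩ h
      simp only [mem_product, mem_range] at h
      ext <;> simp only <;> omega
    · intro j _
      omega
    · rintro ⟨a, b⟩ _
      congr 1; ring

variable {F K V : Type*} [Field F] [Field K] [AddCommGroup V] [Module K V] (f : F →+* K)

theorem sum_eq [Infinite K] [CharP K 3] {z : K} {N : ℕ} (hz : IsPrimitiveRoot z N) (hN : 2 ≤ N) {A : End K V} {n : ℕ}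
    {e : ℕ → ℕ} {R : Multiset ℕ} (h1 : IsEig A (univ.val.map fun i : Fin n => z ^ e i))
    (h2 : IsEig A (R.bind (wts · z))) (c : ℕ → ℕ) :
    ∑ i ∈ range n, c (e i % N) = (R.map fun r => ∑ j ∈ J r, c ((r + (N - 2) * j) % N)).sum := by
  classical
  let c' : K → ℕ := fun μ => if h : ∃ j < N, z ^ j = μ then c h.choose else 0
  have hc : ∀ k, c' (z ^ k) = c (k % N) := fun k => by
    have h : ∃ j < N, z ^ j = z ^ k := ⟨k % N, Nat.mod_lt _ (by omega), by rw [hz.eq_orderOf, pow_mod_orderOf]⟩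
    refine (dif_pos h).trans (congrArg c (hz.pow_inj h.choose_spec.1 (Nat.mod_lt _ (by omega)) ?_))
    rw [h.choose_spec.2, hz.eq_orderOf, pow_mod_orderOf]
  have := congrArg (fun E => (E.map c').sum) (h1.unique h2)
  simp only [Multiset.map_map, Multiset.map_bind, Multiset.sum_bind, comp_def, hc, wts] at this
  rw [← Fin.sum_univ_eq_sum_range (fun i => c (e i % N))]
  refine this.trans (congrArg _ (Multiset.map_congr rfl fun r _ => ?_))
  rw [J, sum_filter, ← Fin.sum_univ_eq_sum_range (fun j => if ¬ 3 ∣ r.choose j then c ((r + (N - 2) * j) % N) else 0),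
    ← sum_filter]
  refine sum_congr (filter_congr fun j _ => by rw [Ne, CharP.cast_eq_zero_iff K 3]) fun j _ => ?_
  have h0 := hz.ne_zero (by omega)
  have h3 : z⁻¹ = z ^ (N - 1) := by
    rw [inv_eq_iff_eq_inv, eq_comm, inv_eq_iff_eq_inv]
    exact eq_inv_of_mul_eq_one_left (by rw [← pow_succ, Nat.sub_add_cancel (by omega), hz.pow_eq_one])
  rw [h3, ← pow_mul, ← pow_add, hc, Fin.val_rev]
  congr 2
  obtain ⟨N, rfl⟩ : ∃ M, N = M + 2 := ⟨N - 2, by omega⟩
  have := j.2
  rw [show N + 2 - 1 = N + 1 by omega, Nat.add_sub_cancel, add_mul]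
  omega

theorem ev_comp {τ : F} {ν : K} (h0 : ν ≠ 0) (h1 : ν ^ 2 ≠ 1) (h : f τ = ν + ν⁻¹) :
    Ev f (mk 0 (-1) 1 τ (by simp)) ν := by
  refine ⟨![-ν⁻¹, 1], ![-ν, 1], fun e => h1 ?_, Fin.forall_fin_two.2 ⟨?_, ?_⟩, Fin.forall_fin_two.2 ⟨?_, ?_⟩⟩
  · simp at e; field_simp at e; linear_combination e
  all_goals simp [h, h0]

variable {f}

theorem ev_pow {g : SL(2, F)} {μ : K} (h : Ev f g μ) (k : ℕ) : Ev f (g ^ k) (μ ^ k) := by
  obtain ⟨c, d, h0, h1, h2⟩ := h
  have : ∀ (c : Fin 2 → K) μ, (∀ i, f (g i 0) * c 0 + f (g i 1) * c 1 = μ * c i) →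
      ∀ i, f ((g ^ k) i 0) * c 0 + f ((g ^ k) i 1) * c 1 = μ ^ k * c i := fun c μ h => by
    induction k with
    | zero => simp
    | succ k ih =>
      intro i
      simp only [pow_succ, mul_ap, map_add, map_mul]
      linear_combination f ((g ^ k) i 0) * h 0 + f ((g ^ k) i 1) * h 1 + μ * ih i
  exact ⟨c, d, h0, this c _ h1, inv_pow μ k ▸ this d _ h2⟩

theorem ev_one {g : SL(2, F)} (h : Ev f g 1) : g = 1 := by
  obtain ⟨c, d, h0, h1, h2⟩ := h
  have a := h1 0
  have b := h1 1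
  have a' := h2 0
  have b' := h2 1
  rw [inv_one] at a' b'
  refine ext4 ⟨?_, ?_, ?_, ?_⟩ <;> apply f.injective <;> apply mul_left_cancel₀ h0 <;> simp [-mul_eq_zero]
  · linear_combination d 1 * a - c 1 * a'
  · linear_combination c 0 * a' - d 0 * a
  · linear_combination d 1 * b - c 1 * b'
  · linear_combination c 0 * b' - d 0 * b

theorem ev_center {g : SL(2, F)} {μ : K} (h : Ev f g μ) (hg : g ∈ Subgroup.center SL(2, F)) : μ ^ 2 = 1 := by
  obtain ⟨c, d, h0, h1, -⟩ := h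
  obtain ⟨r, hr, e⟩ := Matrix.SpecialLinearGroup.mem_center_iff.1 hg
  have a := h1 0
  have b := h1 1
  rw [← e] at a b
  simp [-mul_eq_mul_right_iff] at a b
  have : μ = f r := mul_left_cancel₀ h0 (by linear_combination d 0 * b - d 1 * a)
  rw [this, ← map_pow, show r ^ 2 = 1 by simpa using hr, map_one]

theorem ev_neg : Ev f (-1) (-1 : K) := ⟨![1, 0], ![0, 1], by simp, by simp, by simp⟩

theorem exists_ev [Fintype F] {ν : K} (h : IsPrimitiveRoot ν (Fintype.card F + 1)) :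
    ∃ g : SL(2, F), Ev f g ν := by
  classical
  have h0 := h.ne_zero (by omega)
  have hq : 1 < Fintype.card F := Fintype.one_lt_card
  obtain ⟨p, hp⟩ := CharP.exists F
  obtain ⟨n, hp', hn⟩ := FiniteField.card F p
  have := Fact.mk hp'
  have : CharP K p := charP_of_injective_ringHom f.injective p
  have h1 : ν ^ Fintype.card F = ν⁻¹ := eq_inv_of_mul_eq_one_left (by rw [← pow_succ, h.pow_eq_one])
  have h2 : (ν + ν⁻¹) ^ Fintype.card F = ν + ν⁻¹ := by
    rw [hn, add_pow_char_pow, ← hn, inv_pow, h1, inv_inv, add_comm]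
  have h3 := Polynomial.Splits.roots_map (f := Polynomial.X ^ Fintype.card F - Polynomial.X)
    (by rw [Polynomial.splits_iff_card_roots, FiniteField.roots_X_pow_card_sub_X,
      FiniteField.X_pow_card_sub_X_natDegree_eq _ hq]; rfl) f
  rw [FiniteField.roots_X_pow_card_sub_X] at h3
  obtain ⟨τ, -, hτ⟩ := Multiset.mem_map.1 (show ν + ν⁻¹ ∈ Multiset.map f univ.val by
    rw [← h3]; simp [FiniteField.X_pow_card_sub_X_ne_zero _ hq, h2])
  exact ⟨_, ev_comp f h0 (h.pow_ne_one_of_pos_of_lt two_ne_zero (by omega)) hτ⟩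

end CL.E83
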