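/-
The dimension of the fixed space of a 2-group in odd characteristic, and other linear algebra.
-/
import Cfsg.Agent.KSG.E83.Luc
import Cfsg.Agent.CLAS.FiveU

set_option autoImplicit false

namespace CL.E83
open Module Function Finset Module.End

variable {K V : Type*} [Field K] [AddCommGroup V] [Module K V] [FiniteDimensional K V]

/-- the rational part of the Brauer character value of a 2-element on a subspace -/
noncomputable def TW (W : Submodule K V) (a : End K V) : ℤ :=
  (finrank K ↥(W ⊓ a.eigenspace 1) : ℤ) - finrank K ↥(W ⊓ a.eigenspace (-1))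

theorem finrank_split2 (h0 : (2 : K) ≠ 0) {U : Submodule K V} {g : End K V} (hU : ∀ v ∈ U, g v ∈ U)
    (h2 : ∀ v ∈ U, g (g v) = v) :
    finrank K U = finrank K ↥(U ⊓ g.eigenspace 1) + finrank K ↥(U ⊓ g.eigenspace (-1)) := by
  have h1 : (U ⊓ g.eigenspace 1) ⊔ (U ⊓ g.eigenspace (-1)) = U := le_antisymm (sup_le inf_le_left inf_le_left)
    fun v hv => Submodule.mem_sup.2 ⟨(2 : K)⁻¹ • (v + g v), ⟨U.smul_mem _ (U.add_mem hv (hU v hv)), by
      simp [mem_eigenspace_iff, h2 v hv, add_comm]⟩, (2 : K)⁻¹ • (v - g v), ⟨U.smul_mem _ (U.sub_mem hv (hU v hv)), by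
      simp [mem_eigenspace_iff, h2 v hv, ← smul_neg]⟩, by
        rw [← smul_add, add_add_sub_cancel, ← two_smul K, smul_smul, inv_mul_cancel₀ h0, one_smul]⟩
  have h3 : (U ⊓ g.eigenspace 1) ⊓ (U ⊓ g.eigenspace (-1)) = ⊥ := eq_bot_iff.2 fun v ⟨⟨_, a⟩, _, b⟩ => by
    have := (mem_eigenspace_iff.1 a).symm.trans (mem_eigenspace_iff.1 b)
    rw [← sub_eq_zero, ← sub_smul, smul_eq_zero, sub_neg_eq_add, one_add_one_eq_two] at this
    exact this.resolve_left h0
  have := Submodule.finrank_sup_add_finrank_inf_eq (U ⊓ g.eigenspace 1) (U ⊓ g.eigenspace (-1))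
  rwa [h1, h3, finrank_bot, add_zero] at this

/-- all products of sublists -/
def prods {M : Type*} (m : M → M → M) (o : M) : List M → List M
  | [] => [o]
  | g :: l => prods m o l ++ (prods m o l).map (m g)

/-- a central series -/
def Cen : Submodule K V → List (End K V) → Prop
  | _, [] => True
  | W, g :: l => (∀ w ∈ W, g (g w) = w) ∧ (∀ h ∈ l, ∀ w ∈ W, g (h w) = h (g w)) ∧ Cen (W ⊓ g.eigenspace 1) l

/-- the common fixed points -/
def fixL : Submodule K V → List (End K V) → Submodule K V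
  | W, [] => W
  | W, g :: l => fixL (W ⊓ g.eigenspace 1) l

omit [FiniteDimensional K V] in
theorem mem_fixL {W : Submodule K V} {l : List (End K V)} {v : V} : v ∈ fixL W l ↔ v ∈ W ∧ ∀ g ∈ l, g v = v := by
  induction l generalizing W with
  | nil => simp [fixL]
  | cons g l ih => simp [fixL, ih, mem_eigenspace_iff, and_assoc]

theorem prods_ind {M : Type*} {m : M → M → M} {o : M} {P : M → Prop} (h1 : P o) {l : List M}
    (h : ∀ g ∈ l, ∀ a, P a → P (m g a)) : ∀ a ∈ prods m o l, P a := by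
  induction l with
  | nil => simpa [prods]
  | cons g l ih =>
    have := ih fun g hg => h g (List.mem_cons_of_mem _ hg)
    simp only [prods, List.mem_append, List.mem_map]
    rintro a (ha | ⟨a, ha, rfl⟩)
    exacts [this a ha, h g List.mem_cons_self a (this a ha)]

theorem sign (h0 : (2 : K) ≠ 0) (l : List (End K V)) (W : Submodule K V) (hW : ∀ g ∈ l, ∀ w ∈ W, g w ∈ W)
    (h : Cen W l) : ((prods (· * ·) 1 l).map (TW W)).sum = 2 ^ l.length * (finrank K (fixL W l) : ℤ) := by
  induction l generalizing W with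
  | nil =>
    have := finrank_split2 h0 (U := W) (g := 1) (fun _ h => h) fun _ _ => rfl
    have e : W ⊓ (1 : End K V).eigenspace 1 = W := inf_eq_left.2 fun v _ => by simp
    change [TW W 1].sum = 2 ^ 0 * (finrank K W : ℤ)
    rw [List.sum_singleton, TW]
    rw [e] at this ⊢
    omega
  | cons g l ih =>
    obtain ⟨h1, h2, h3⟩ := h
    have hg := hW g List.mem_cons_self
    have h4 : ∀ a ∈ prods (· * ·) 1 l, ∀ w ∈ W, a w ∈ W ∧ g (a w) = a (g w) :=
      prods_ind (fun w hw => ⟨hw, rfl⟩) fun k hk a ha w hw => ⟨hW k (List.mem_cons_of_mem _ hk) _ (ha w hw).1, by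
        rw [mul_apply, mul_apply, h2 k hk _ (ha w hw).1, (ha w hw).2]⟩
    have h5 : ∀ a ∈ prods (· * ·) 1 l, TW W a + TW W (g * a) = 2 * TW (W ⊓ g.eigenspace 1) a := fun a ha => by
      have sp : ∀ (b : End K V) μ, (∀ w ∈ W, g (b w) = b (g w)) → finrank K ↥(W ⊓ b.eigenspace μ) =
          finrank K ↥(W ⊓ g.eigenspace 1 ⊓ b.eigenspace μ) + finrank K ↥(W ⊓ g.eigenspace (-1) ⊓ b.eigenspace μ) :=
        fun b μ hb => by
          rw [inf_right_comm W (g.eigenspace 1), inf_right_comm W (g.eigenspace (-1))]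
          exact finrank_split2 h0 (U := W ⊓ b.eigenspace μ) (g := g) (fun v hv => ⟨hg v hv.1, mem_eigenspace_iff.2 (by
            rw [← hb v hv.1, mem_eigenspace_iff.1 hv.2, map_smul])⟩) fun v hv => h1 v hv.1
      have e : ∀ ε μ : K, ε * ε = 1 → W ⊓ g.eigenspace ε ⊓ (g * a).eigenspace μ = W ⊓ g.eigenspace ε ⊓ a.eigenspace (ε * μ) :=
        fun ε μ hε => Submodule.ext fun v => and_congr_right fun hv => by
          change v ∈ (g * a).eigenspace μ ↔ v ∈ a.eigenspace (ε * μ)
          rw [mem_eigenspace_iff, mem_eigenspace_iff, mul_apply, (h4 a ha v hv.1).2, mem_eigenspace_iff.1 hv.2, map_smul]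
          exact ⟨fun h => by rw [mul_smul, ← h, smul_smul, hε, one_smul], fun h => by
            rw [h, smul_smul, ← mul_assoc, hε, one_mul]⟩
      have c1 := fun w hw => (h4 a ha w hw).2
      have c2 : ∀ w ∈ W, g ((g * a) w) = (g * a) (g w) := fun w hw => by rw [mul_apply, mul_apply, c1 w hw]
      rw [TW, TW, TW, sp a _ c1, sp a _ c1, sp _ _ c2, sp _ _ c2, e _ _ (one_mul 1), e _ _ (one_mul 1),
        e (-1) _ (by ring), e (-1) _ (by ring), one_mul, one_mul, mul_one, neg_mul_neg, one_mul]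
      push_cast; ring
    rw [prods, List.map_append, List.sum_append, List.map_map, ← List.sum_map_add]
    refine (congrArg List.sum (List.map_congr_left h5)).trans ?_
    rw [List.sum_map_mul_left, ih (W ⊓ g.eigenspace 1) (fun k hk w hw => ⟨hW k (List.mem_cons_of_mem _ hk) w hw.1, mem_eigenspace_iff.2 (by
      rw [h2 k hk w hw.1, mem_eigenspace_iff.1 hw.2, map_smul])⟩) h3, List.length_cons, fixL]
    ring

omit [FiniteDimensional K V] in
theorem TW_neg (W : Submodule K V) (a : End K V) : TW W (-a) = -TW W a := by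
  have e : ∀ μ : K, (-a).eigenspace μ = a.eigenspace (-μ) := fun μ => Submodule.ext fun v => by
    rw [mem_eigenspace_iff, mem_eigenspace_iff, LinearMap.neg_apply, neg_smul, neg_eq_iff_eq_neg]
  rw [TW, TW, e, e, neg_neg, neg_sub]

theorem finrank_le_ker_add (U : Submodule K V) (f : End K V) {L : Submodule K V} (h : ∀ v ∈ U, f v ∈ L) :
    finrank K U ≤ finrank K ↥(U ⊓ LinearMap.ker f) + finrank K L := by
  have h1 := (f.domRestrict U).finrank_range_add_finrank_ker
  have h2 : finrank K (LinearMap.range (f.domRestrict U)) ≤ finrank K L :=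
    Submodule.finrank_mono (by rintro _ ⟨v, rfl⟩; exact h v.1 v.2)
  rw [LinearMap.ker_domRestrict, ← Submodule.finrank_map_subtype_eq, Submodule.map_comap_subtype] at h1
  omega

theorem finrank_le_three {U : Submodule K V} {f : End K V} (hU : ∀ v ∈ U, f v ∈ U) (h : ∀ v, f (f (f v)) = 0) :
    finrank K U ≤ 3 * finrank K ↥(U ⊓ LinearMap.ker f) := by
  have h1 := finrank_le_ker_add U (f * f) (L := U ⊓ LinearMap.ker f) fun v hv => ⟨hU _ (hU v hv), h v⟩
  have h2 := finrank_le_ker_add (U ⊓ LinearMap.ker (f * f)) f (L := U ⊓ LinearMap.ker f) fun v hv => ⟨hU v hv.1, hv.2⟩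
  have h3 : finrank K ↥(U ⊓ LinearMap.ker (f * f) ⊓ LinearMap.ker f) ≤ finrank K ↥(U ⊓ LinearMap.ker f) :=
    Submodule.finrank_mono fun v hv => ⟨hv.1.1, hv.2⟩
  omega

omit [FiniteDimensional K V] in
theorem eig_one (a : End K V) : a.eigenspace 1 = LinearMap.ker (1 - a) := Submodule.ext fun v => by
  rw [mem_eigenspace_iff, LinearMap.mem_ker, LinearMap.sub_apply, one_smul, sub_eq_zero, eq_comm]; rfl

theorem scott_grp {G E : Type*} [Group G] [Group E] [Fintype E] (ρ : G →* End K V) (a b : G) (X : E →* G)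
    (hX : ∀ e, X e ∈ Subgroup.closure {a, b}) (h0 : (Fintype.card E : K) ≠ 0) (hf : ∀ v, (∀ e, ρ (X e) v = v) → v = 0) :
    finrank K ((ρ a).eigenspace 1) + finrank K ((ρ b).eigenspace 1) + finrank K ((ρ (a * b)).eigenspace 1) ≤
      finrank K V := by
  have h := CL.Five.scott_lin (ρ a) (ρ b)
  have h1 : ∀ g ∈ Subgroup.closure {a, b}, (∀ v ∈ LinearMap.ker (1 - ρ a) ⊓ LinearMap.ker (1 - ρ b), ρ g v = v) ∧
      ∀ v, v - ρ g v ∈ LinearMap.range (1 - ρ a) ⊔ LinearMap.range (1 - ρ b) := fun g hg => by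
    induction hg using Subgroup.closure_induction with
    | mem g hg =>
      rcases hg with rfl | rfl
      · exact ⟨fun v hv => (sub_eq_zero.1 hv.1).symm, fun v => Submodule.mem_sup_left ⟨v, rfl⟩⟩
      · exact ⟨fun v hv => (sub_eq_zero.1 hv.2).symm, fun v => Submodule.mem_sup_right ⟨v, rfl⟩⟩
    | one => simp
    | mul g k _ _ hg hk =>
      refine ⟨fun v hv => by rw [map_mul, mul_apply, hk.1 v hv, hg.1 v hv], fun v => ?_⟩
      rw [map_mul, mul_apply, ← sub_add_sub_cancel _ (ρ k v)]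
      exact add_mem (hk.2 _) (hg.2 _)
    | inv g _ hg =>
      have e : ∀ v, ρ g (ρ g⁻¹ v) = v := fun v => by rw [← mul_apply, ← map_mul, mul_inv_cancel, map_one, one_apply]
      refine ⟨fun v hv => ?_, fun v => ?_⟩
      · rw [← hg.1 v hv, ← mul_apply, ← map_mul, inv_mul_cancel, map_one, one_apply, hg.1 v hv]
      · simpa [e] using neg_mem (hg.2 (ρ g⁻¹ v))
  have h2 : LinearMap.ker (1 - ρ a) ⊓ LinearMap.ker (1 - ρ b) = ⊥ :=
    eq_bot_iff.2 fun v hv => hf v fun e => (h1 _ (hX e)).1 v hv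
  have h3 : LinearMap.range (1 - ρ a) ⊔ LinearMap.range (1 - ρ b) = ⊤ := eq_top_iff.2 fun v _ => by
    have h4 := hf (∑ e, ρ (X e) v) fun e => by
      simp only [map_sum, ← mul_apply, ← map_mul]
      exact Fintype.sum_equiv (Equiv.mulLeft e) _ _ fun _ => rfl
    have h5 := Submodule.sum_mem _ fun e (_ : e ∈ univ) => (h1 _ (hX e)).2 v
    rw [sum_sub_distrib, h4, sub_zero, sum_const, card_univ, ← Nat.cast_smul_eq_nsmul K] at h5
    exact (Submodule.smul_mem_iff _ h0).1 h5
  rw [h2, h3, finrank_bot, finrank_top, ← map_mul] at h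
  rw [eig_one, eig_one, eig_one]
  omega

end CL.E83
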