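/-
Coded groups: certificates for the dimensions of fixed spaces of 2-groups.
-/
import Cfsg.Agent.KSG.E83.Sign
import Cfsg.Agent.CLAS.Elus4

set_option autoImplicit false

namespace CL.E83
open Module Function Finset Module.End

variable {K V : Type*} [Field K] [AddCommGroup V] [Module K V] [FiniteDimensional K V]

theorem sum_eig_le {n : ℕ} (s : End K V) {μ : Fin n → K} (hμ : Injective μ) (C : Submodule K V) :
    ∑ j, finrank K ↥(s.eigenspace (μ j) ⊓ C) ≤ finrank K C :=
  CL.Elus.sum_finrank_inf_le (s.eigenspaces_iSupIndep.comp hμ) C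

theorem graded_le [CharP K 3] {n : ℕ} {s u : End K V} {μ : Fin n → K} (hμ : Injective μ) (h : Commute s u)
    (hu : u ^ 3 = 1) : ∑ j, (finrank K (s.eigenspace (μ j)) + 2) / 3 ≤ finrank K (u.eigenspace 1) := by
  refine le_trans (sum_le_sum fun j _ => ?_) (sum_eig_le s hμ _)
  have h3 : (1 - u) ^ 3 = 0 := by
    have : (3 : End K V) = 0 := by
      rw [show (3 : End K V) = algebraMap K _ ((3 : ℕ) : K) by simp [map_ofNat], CharP.cast_eq_zero, map_zero]
    rw [show (1 - u) ^ 3 = 1 - u ^ 3 + 3 * (u ^ 2 - u) by noncomm_ring, hu, this]; simp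
  have := finrank_le_three (U := s.eigenspace (μ j)) (f := 1 - u) (fun v hv => sub_mem hv (mem_eigenspace_iff.2 (by
    rw [← mul_apply, h.eq, mul_apply, mem_eigenspace_iff.1 hv, map_smul]))) fun v => by
      simpa [pow_succ] using congrArg (· v) h3
  rw [eig_one]
  omega

/-- a signed endomorphism -/
def sg (b : Bool) (g : End K V) : End K V := if b then -g else g

/-- sign vectors -/
abbrev B4 := Bool × Bool × Bool × Bool

/-- the eigenspaces of four commuting involutions -/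
def L4 (g : Fin 4 → End K V) (b : B4) : Submodule K V :=
  fixL ⊤ [sg b.1 (g 0), sg b.2.1 (g 1), sg b.2.2.1 (g 2), sg b.2.2.2 (g 3)]

theorem frob_le (h0 : (2 : K) ≠ 0) {g : Fin 4 → End K V} (hc : ∀ i j, Commute (g i) (g j)) (h2 : ∀ i, g i * g i = 1)
    {Z : End K V} {σ : B4 → B4} (hσ : Injective σ) (hZ : ∀ b, ∀ w ∈ L4 g b, Z w ∈ L4 g (σ b)) {o a b c : B4}
    (ho : ∀ x, x = o ∨ ∃ k < 5, x = σ^[k] a ∨ x = σ^[k] b ∨ x = σ^[k] c) {ζ : K} (hζ : ζ ≠ 0) :
    finrank K (Z.eigenspace ζ) ≤ finrank K ↥(Z.eigenspace ζ ⊓ L4 g o) + finrank K (L4 g a) + finrank K (L4 g b) +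
      finrank K (L4 g c) := by
  let π : B4 → End K V := fun b =>
    (1 + sg b.1 (g 0)) * ((1 + sg b.2.1 (g 1)) * ((1 + sg b.2.2.1 (g 2)) * (1 + sg b.2.2.2 (g 3))))
  have e2 : ∀ x : End K V, 1 + sg true x + (1 + sg false x) = (2 : K) • 1 := fun x => by
    simp only [sg, two_smul, if_true, Bool.false_eq_true, if_false]; abel
  have h1 : ∀ v, ∑ b, π b v = (16 : K) • v := fun v => by
    rw [← LinearMap.sum_apply]
    simp only [π, Fintype.sum_prod_type, Fintype.sum_bool, ← mul_sum, ← sum_mul, ← mul_add, ← add_mul, e2]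
    simp [smul_smul]; norm_num
  have h16 : (16 : K) ≠ 0 := by rw [show (16 : K) = 2 ^ 4 by norm_num]; exact pow_ne_zero _ h0
  have c1 : ∀ b b' i j, Commute (sg b (g i)) (1 + sg b' (g j)) := fun b b' i j => (Commute.one_right _).add_right (by
    cases b <;> cases b' <;> simp [sg, hc])
  have c2 : ∀ b i, sg b (g i) * (1 + sg b (g i)) = 1 + sg b (g i) := fun b i => by
    cases b <;> simp [sg, mul_add, h2, add_comm]
  have h3 : ∀ b v, π b v ∈ L4 g b := fun b v => mem_fixL.2 ⟨trivial, by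
    simp only [List.forall_mem_cons, List.not_mem_nil, IsEmpty.forall_iff, implies_true, and_true, ← mul_apply]
    refine ⟨?_, ?_, ?_, ?_⟩ <;> congr 1
    · simp only [π, ← mul_assoc, c2]
    · simp only [π]; rw [(c1 _ _ _ _).left_comm, ← mul_assoc (sg _ _), c2]
    · simp only [π]; rw [(c1 _ _ _ _).left_comm, (c1 _ _ _ _).left_comm, ← mul_assoc (sg _ _), c2]
    · simp only [π]; rw [(c1 _ _ _ _).left_comm, (c1 _ _ _ _).left_comm, (c1 _ _ _ _).left_comm, c2]⟩
  have c3 : ∀ b b' (x : End K V) (w : V), sg b x w = w → (1 + sg b' x) w = (if b' = b then (2 : K) else 0) • w := fun b b' x w h => by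
    cases b <;> cases b' <;> simp_all [sg, two_smul, neg_eq_iff_eq_neg]
  have h4 : ∀ b b', b' ≠ b → ∀ w ∈ L4 g b, π b' w = 0 := fun b b' ne w hw => by
    have := (mem_fixL.1 hw).2
    simp only [List.forall_mem_cons] at this
    simp only [π, mul_apply, c3 _ _ _ _ this.1, c3 _ _ _ _ this.2.1, c3 _ _ _ _ this.2.2.1, c3 _ _ _ _ this.2.2.2.1,
      map_smul, smul_smul]
    refine smul_eq_zero_of_left ?_ _
    by_contra! h
    simp only [mul_ne_zero_iff, ne_eq, ite_eq_right_iff, Classical.not_imp] at h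
    exact ne (Prod.ext h.2.1 (Prod.ext h.1.2.1 (Prod.ext h.1.1.2.1 h.1.1.1.1)))
  have h5 : ∀ v ∈ Z.eigenspace ζ, ∀ b, π b v = 0 → ∀ k, π (σ^[k] b) v = 0 := fun v hv b hb k => by
    induction k with
    | zero => exact hb
    | succ k ih =>
      have := congrArg (fun x => π (σ (σ^[k] b)) (Z x)) (h1 v)
      simp only [map_sum, map_smul, mem_eigenspace_iff.1 hv] at this
      rw [sum_eq_zero fun x _ => ?_, smul_smul, eq_comm, smul_eq_zero] at this
      · rw [iterate_succ_apply']; exact this.resolve_left (mul_ne_zero h16 hζ)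
      · by_cases e : x = σ^[k] b
        · rw [e, ih, map_zero, map_zero]
        · exact h4 _ _ (fun e' => e (hσ e').symm) _ (hZ _ _ (h3 _ _))
  have a1 := finrank_le_ker_add (Z.eigenspace ζ) (π a) fun v _ => h3 a v
  have a2 := finrank_le_ker_add (Z.eigenspace ζ ⊓ LinearMap.ker (π a)) (π b) fun v _ => h3 b v
  have a3 := finrank_le_ker_add (Z.eigenspace ζ ⊓ LinearMap.ker (π a) ⊓ LinearMap.ker (π b)) (π c) fun v _ => h3 c v
  have a4 : finrank K ↥(Z.eigenspace ζ ⊓ LinearMap.ker (π a) ⊓ LinearMap.ker (π b) ⊓ LinearMap.ker (π c)) ≤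
      finrank K ↥(Z.eigenspace ζ ⊓ L4 g o) := Submodule.finrank_mono fun v ⟨⟨⟨b1, b2⟩, b3⟩, b4⟩ => ⟨b1, by
    rw [SetLike.mem_coe, ← Submodule.smul_mem_iff _ h16, ← h1, sum_eq_single o (fun x _ hx => ?_) (by simp)]
    · exact h3 o v
    · obtain ⟨k, -, rfl | rfl | rfl⟩ := (ho x).resolve_left hx
      exacts [h5 v b1 _ b2 k, h5 v b1 _ b3 k, h5 v b1 _ b4 k]⟩
  omega

/-- elements of a group given by natural numbers -/
structure Cod (G : Type*) [Monoid G] where
  mul : ℕ → ℕ → ℕ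
  inv : ℕ → ℕ
  ok : ℕ → Bool
  In : ℕ → Prop
  el : ℕ → G
  in_ok : ∀ a, ok a = true → In a
  in_mul : ∀ a b, In a → In b → In (mul a b)
  el_mul : ∀ a b, In a → In b → el (mul a b) = el a * el b

namespace Cod
variable {G : Type*} [Group G] (C : Cod G) (ρ : G →* End K V)

/-- the product of signed codes -/
def smul (x y : Bool × ℕ) : Bool × ℕ := (xor x.1 y.1, C.mul x.2 y.2)

/-- the endomorphism of a signed code -/
def r (x : Bool × ℕ) : End K V := sg x.1 (ρ (C.el x.2))

omit [FiniteDimensional K V] in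
theorem r_mul {x y : Bool × ℕ} (hx : C.In x.2) (hy : C.In y.2) : C.r ρ (C.smul x y) = C.r ρ x * C.r ρ y := by
  obtain ⟨a, x⟩ := x
  obtain ⟨b, y⟩ := y
  cases a <;> cases b <;> simp [r, smul, sg, C.el_mul _ _ hx hy]

/-- membership -/
def mem (x : Bool × ℕ) (t : List (Bool × ℕ)) : Bool := t.any fun y => Nat.beq x.2 y.2 && !xor x.1 y.1

theorem mem_iff {x : Bool × ℕ} {t : List (Bool × ℕ)} : mem x t = true ↔ x ∈ t := by
  simp only [mem, List.any_eq_true, Bool.and_eq_true, Nat.beq_eq, Bool.not_eq_true']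
  exact ⟨fun ⟨y, h, a, b⟩ => Prod.ext (by simpa using b : x.1 = y.1) a ▸ h, fun h => ⟨x, h, rfl, by simp⟩⟩

/-- `a * n = b` for some `n` in `t` -/
def rel (t : List (Bool × ℕ)) (a b : Bool × ℕ) : Bool :=
  AltE.forceN (C.mul (C.inv a.2) b.2) fun n => mem (xor a.1 b.1, n) t && Nat.beq (C.mul a.2 n) b.2

/-- the elements of `t` fix `W` -/
def Tr (W : Submodule K V) (t : List (Bool × ℕ)) : Prop := ∀ n ∈ t, C.In n.2 ∧ ∀ w ∈ W, C.r ρ n w = w

variable {C ρ}

omit [FiniteDimensional K V] in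
theorem rel_spec {W : Submodule K V} {t : List (Bool × ℕ)} (ht : C.Tr ρ W t) {a b : Bool × ℕ} (ha : C.In a.2)
    (h : C.rel t a b = true) : ∀ w ∈ W, C.r ρ b w = C.r ρ a w := fun w hw => by
  rw [rel, AltE.forceN_eq, Bool.and_eq_true, mem_iff, Nat.beq_eq] at h
  have e : b = C.smul a (xor a.1 b.1, C.mul (C.inv a.2) b.2) := Prod.ext (by simp [smul]) h.2.symm
  rw [e, C.r_mul ρ ha (ht _ h.1).1, mul_apply, (ht _ h.1).2 w hw]

variable (C) in
/-- the list of all products -/
def trs : List (Bool × ℕ) → List (Bool × ℕ) → List (Bool × ℕ)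
  | t, [] => t
  | t, g :: l => trs (t ++ t.map (C.smul g)) l

omit [FiniteDimensional K V] in
theorem Tr.step {W : Submodule K V} {t : List (Bool × ℕ)} (ht : C.Tr ρ W t) {g : Bool × ℕ} (hg : C.In g.2) :
    C.Tr ρ (W ⊓ (C.r ρ g).eigenspace 1) (t ++ t.map (C.smul g)) := by
  simp only [Tr, List.mem_append, List.mem_map]
  rintro n (hn | ⟨n, hn, rfl⟩)
  · exact ⟨(ht n hn).1, fun w hw => (ht n hn).2 w hw.1⟩
  · exact ⟨C.in_mul _ _ hg (ht n hn).1, fun w hw => by
      rw [C.r_mul ρ hg (ht n hn).1, mul_apply, (ht n hn).2 w hw.1, mem_eigenspace_iff.1 hw.2, one_smul]⟩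

omit [FiniteDimensional K V] in
theorem Tr.trs {W : Submodule K V} {t l : List (Bool × ℕ)} (ht : C.Tr ρ W t) (hl : ∀ g ∈ l, C.In g.2) :
    C.Tr ρ (fixL W (l.map (C.r ρ))) (C.trs t l) := by
  induction l generalizing W t with
  | nil => exact ht
  | cons g l ih => exact ih (ht.step (hl g List.mem_cons_self)) fun g hg => hl g (List.mem_cons_of_mem _ hg)

variable (C) in
/-- the check of a central series -/
def cen : List (Bool × ℕ) → List (Bool × ℕ) → Bool
  | _, [] => true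
  | t, g :: l => mem (C.smul g g) t && l.all (fun h => C.rel t (C.smul h g) (C.smul g h)) &&
    cen (t ++ t.map (C.smul g)) l

omit [FiniteDimensional K V] in
theorem cen_spec {W : Submodule K V} {t l : List (Bool × ℕ)} (ht : C.Tr ρ W t) (hl : ∀ g ∈ l, C.In g.2)
    (h : C.cen t l = true) : Cen W (l.map (C.r ρ)) := by
  induction l generalizing W t with
  | nil => trivial
  | cons g l ih =>
    have hg := hl g List.mem_cons_self
    have hl' := fun g hg => hl g (List.mem_cons_of_mem _ hg)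
    simp only [cen, Bool.and_eq_true, mem_iff, List.all_eq_true] at h
    refine ⟨fun w hw => ?_, ?_, ih (ht.step hg) hl' h.2⟩
    · rw [← mul_apply, ← C.r_mul ρ hg hg, (ht _ h.1.1).2 w hw]
    · simp only [List.mem_map]
      rintro _ ⟨k, hk, rfl⟩ w hw
      rw [← mul_apply, ← mul_apply, ← C.r_mul ρ hg (hl' k hk), ← C.r_mul ρ (hl' k hk) hg]
      exact rel_spec ht (C.in_mul _ _ (hl' k hk) hg) (h.1.2 k hk) w hw

omit [FiniteDimensional K V] in
theorem map_prods {o : ℕ} (ho : C.In o) (h1 : C.el o = 1) {l : List (Bool × ℕ)} (hl : ∀ g ∈ l, C.In g.2) :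
    (prods C.smul (false, o) l).map (C.r ρ) = prods (· * ·) 1 (l.map (C.r ρ)) := by
  induction l with
  | nil => simp [prods, r, h1, sg]
  | cons g l ih =>
    have hl' := fun g hg => hl g (List.mem_cons_of_mem _ hg)
    simp only [prods, List.map_append, List.map_cons, List.map_map, ← ih hl']
    refine congrArg _ (List.map_congr_left fun a ha => C.r_mul ρ (hl g List.mem_cons_self) ?_)
    exact prods_ind (P := fun a => C.In a.2) ho (fun g hg a ha => C.in_mul _ _ (hl' g hg) ha) a ha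

/-- the value on a group element -/
noncomputable def T (ρ : G →* End K V) (g : G) : ℤ := TW ⊤ (ρ g)

theorem T_conj (ρ : G →* End K V) {g g' : G} (h : IsConj g g') : T ρ g = T ρ g' := by
  rw [T, T, TW, TW, top_inf_eq, top_inf_eq, top_inf_eq, top_inf_eq, AltE.finrank_conj ρ h, AltE.finrank_conj ρ h]

variable (C) in
/-- the check of the class of an element; the representatives are given with their class numbers -/
def cls (R : List (ℕ × ℕ)) (a : ℕ) (c : ℕ × ℕ) : Bool :=
  C.ok c.2 && Nat.beq (C.mul c.2 a) (C.mul (R.getD c.1 (a, 0)).1 c.2) && Nat.blt c.1 R.length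

theorem cls_spec {R : List (ℕ × ℕ)} {m : ℕ} {t : ℕ → ℤ} (hR : ∀ x ∈ R, C.In x.1 ∧ x.2 < m ∧ T ρ (C.el x.1) = t x.2) {a : ℕ}
    (ha : C.In a) {c : ℕ × ℕ} (h : C.cls R a c = true) :
    (R.getD c.1 (a, 0)).2 < m ∧ T ρ (C.el a) = t (R.getD c.1 (a, 0)).2 := by
  simp only [cls, Bool.and_eq_true, Nat.beq_eq, Nat.blt_eq] at h
  have h1 := hR (R.getD c.1 (a, 0)) (by rw [List.getD_eq_getElem R (a, 0) h.2]; exact List.getElem_mem h.2)
  have h2 := C.in_ok _ h.1.1
  have h3 := congrArg C.el h.1.2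
  rw [C.el_mul _ _ h2 ha, C.el_mul _ _ h1.1 h2] at h3
  exact ⟨h1.2.1, h1.2.2 ▸ T_conj ρ (isConj_iff.2 ⟨_, mul_inv_eq_iff_eq_mul.2 h3⟩)⟩

variable (C) in
/-- the coefficients of the classes -/
def coef (R : List (ℕ × ℕ)) : List (Bool × ℕ) → List (ℕ × ℕ) → Option (ℕ → ℤ)
  | [], _ => some 0
  | _ :: _, [] => none
  | a :: p, c :: d => bif C.cls R a.2 c then (coef R p d).map fun f j =>
      bif Nat.beq j (R.getD c.1 (a.2, 0)).2 then (bif a.1 then f j - 1 else f j + 1) else f j else none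

theorem coef_spec {R : List (ℕ × ℕ)} {m : ℕ} {t : ℕ → ℤ} (hR : ∀ x ∈ R, C.In x.1 ∧ x.2 < m ∧ T ρ (C.el x.1) = t x.2)
    {p : List (Bool × ℕ)} (hp : ∀ a ∈ p, C.In a.2) {d : List (ℕ × ℕ)} {f : ℕ → ℤ} (h : C.coef R p d = some f) :
    (p.map fun a => TW ⊤ (C.r ρ a)).sum = ∑ j ∈ range m, f j * t j := by
  induction p generalizing d f with
  | nil => obtain rfl := Option.some.inj h; simp
  | cons a p ih =>
    obtain _ | ⟨c, d⟩ := d
    · cases h
    rw [coef] at h
    cases e : C.cls R a.2 c <;> rw [e] at h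
    · cases h
    obtain ⟨f, h1, rfl⟩ := Option.map_eq_some_iff.1 h
    obtain ⟨h2, h3⟩ := cls_spec hR (hp a List.mem_cons_self) e
    generalize (R.getD c.1 (a.2, 0)).2 = k at h2 h3
    rw [List.map_cons, List.sum_cons, ih (fun a ha => hp a (List.mem_cons_of_mem _ ha)) h1,
      ← add_sum_erase _ _ (mem_range.2 h2), ← add_sum_erase _ _ (mem_range.2 h2), ← add_assoc]
    congr 1
    · beta_reduce
      rw [r, sg, Nat.beq_refl]
      cases a.1
      · rw [if_neg (by simp), ← T, h3]; simp; ring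
      · rw [if_pos rfl, TW_neg, ← T, h3]; simp; ring
    · exact sum_congr rfl fun j hj => by
        beta_reduce
        rw [Bool.eq_false_iff.2 fun e => ne_of_mem_erase hj (Nat.eq_of_beq_eq_true e)]; rfl

variable (C) in
/-- the check of a 2-subgroup with a sign character -/
def con (o : ℕ) (Z : List (Bool × ℕ)) (R : List (ℕ × ℕ)) (l : List (Bool × ℕ)) (d : List (ℕ × ℕ)) (f : List ℤ) : Bool :=
  l.all (fun g => C.ok g.2) && C.cen Z l &&
    (C.coef R (prods C.smul (false, o) l) d).any fun g => (List.range f.length).map g == f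

theorem con_spec (h0 : (2 : K) ≠ 0) {o : ℕ} (ho : C.In o) (h1 : C.el o = 1) {Z : List (Bool × ℕ)} (hZ : C.Tr ρ ⊤ Z)
    {R : List (ℕ × ℕ)} {f : List ℤ} {t : ℕ → ℤ} (hR : ∀ x ∈ R, C.In x.1 ∧ x.2 < f.length ∧ T ρ (C.el x.1) = t x.2)
    {l : List (Bool × ℕ)} {d : List (ℕ × ℕ)} (h : C.con o Z R l d f = true) :
    ∑ j ∈ range f.length, f.getD j 0 * t j = 2 ^ l.length * (finrank K (fixL ⊤ (l.map (C.r ρ))) : ℤ) := by
  simp only [con, Bool.and_eq_true, List.all_eq_true, Option.any_eq_true, beq_iff_eq] at h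
  obtain ⟨⟨a, b⟩, g, c, e⟩ := h
  have hl := fun g hg => C.in_ok _ (a g hg)
  have := sign h0 _ ⊤ (fun _ _ _ _ => trivial) (cen_spec hZ hl b)
  rw [← map_prods ho h1 hl, List.map_map, List.length_map] at this
  rw [← this]
  refine Eq.trans (sum_congr rfl fun j hj => ?_) (coef_spec hR (prods_ind (P := fun a => C.In a.2) ho
    fun g hg a ha => C.in_mul _ _ (hl g hg) ha) c).symm
  conv_lhs => rw [← e]
  simp [List.getD, mem_range.1 hj]

end Cod
end CL.E83
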