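/-
Semisimple classes of `E₈(3)` of small order.
-/
import Cfsg.Agent.KSG.E83.DatN
import Cfsg.Agent.KSG.E83.Cod

set_option autoImplicit false
set_option maxRecDepth 20000
set_option backward.isDefEq.respectTransparency false

namespace CL.E83
open Module Function Finset CL.SL2Wt CL.Chev CL.AltE Cfsg.Lie
open Matrix hiding zpow_add zpow_mul zpow_sub one_zpow
open scoped MatrixGroups

/-- the data of the classes -/
structure Dat (ρ : G3 →* End K3 (Fin 248 → K3)) : Prop where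
  t8 : ∀ g, g ^ 8 = 1 → g = 1 ∨ (Cod.T ρ g, Cod.T ρ (g ^ 2), Cod.T ρ (g ^ 4)) ∈ L8
  f5 : ∀ g, g ^ 5 = 1 → ∀ z, IsPrimitiveRoot z 5 → g = 1 ∨ finrank K3 ((ρ g).eigenspace 1) = 68 ∨
    ∀ k : Fin 4, finrank K3 ((ρ g).eigenspace (z ^ (k.1 + 1))) = 50
  f11 : ∀ g, g ^ 11 = 1 → g = 1 ∨ finrank K3 ((ρ g).eigenspace 1) = 28 ∧
    ∀ u, Commute u g → u ^ 3 = 1 → 101 ≤ finrank K3 ((ρ u).eigenspace 1)
  f31 : ∀ g, g ^ 31 = 1 → g = 1 ∨ finrank K3 ((ρ g).eigenspace 1) = 8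
  n41 : ∀ g : G3, g ^ 41 = 1 → IsConj g (g ^ 2) → g = 1

theorem wtA_cast (r : Fin 240) : wtA chevE8 (Fin.castAdd 8 r) = (rootSys chevE8).wt r :=
  funext fun j => by rw [rootSys_wt', wtA, if_pos (by rw [Fin.val_castAdd]; exact r.2), Fin.val_castAdd]

variable {φ : K3 →+* K3} {σ : Monoid.End (chevE8.SteinbergGroup K3)} {ψ : G3 →* chevE8.SteinbergGroup K3}
  (A : (stS chevE8 K3).Alg φ 3 σ)

theorem chg_eq {n k : ℕ} {e : ℕ → ℕ} (w : Equiv.Perm (Fin 240)) (h1 : ∀ r, k * e (w r) % n = e r % n) :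
    chg n k e = false := by
  rw [chg, sumN_eq, sumN_eq, ← Fin.sum_univ_eq_sum_range (fun i => 256 ^ (e i % n)),
    ← Fin.sum_univ_eq_sum_range (fun i => 256 ^ (k * e i % n)), ← Equiv.sum_comp w fun i => 256 ^ (k * e i % n)]
  simp only [h1, Nat.beq_refl, Bool.not_true]

theorem q8_spec {H : ℕ → ℕ} (h : q8_8 H = true) (e : H 1 = H 3) :
    H 1 / 256 ^ 0 % 256 = 248 ∨ (d8 (H 1), d8 (H 2), d8 (H 4)) ∈ L8 := by
  rwa [q8_8, ← e, Nat.beq_refl, Bool.not_true, Bool.false_or, Bool.or_eq_true, Nat.beq_eq, decide_eq_true_eq] at h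

theorem perm_of_conj {t : Fin 8 → K3ˣ} {k n : ℕ} (h : IsConj (A.r3.torHom t) (A.r3.torHom t ^ k)) {z : K3ˣ}
    (hz : orderOf z = n) {e : ℕ → ℕ} (he : ∀ i : Fin 248, uchr t (wtA chevE8 i) = z ^ e i) :
    ∃ w : Equiv.Perm (Fin 240), w ∈ (rootSys chevE8).W ∧ (∀ r, k * e (w r) % n = e r % n) ∧ chg n k e = false := by
  obtain ⟨c, hc⟩ := isConj_iff.1 h
  obtain ⟨w, hw, e'⟩ := A.r3.exists_act_of_conj A.good A.sc (A.mem c) (hc.trans (map_pow _ _ _).symm)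
  have h1 : ∀ r : Fin 240, k * e (w r) % n = e r % n := fun r => by
    have := RootSys.uchr_act hw t r
    rw [e', uchr_pow] at this
    have h2 := (congrArg (· ^ k) ((he _).symm.trans (congrArg (uchr t) (wtA_cast (w r))))).trans
      (this.trans ((congrArg (uchr t) (wtA_cast r)).symm.trans (he _)))
    simp only [← pow_mul, pow_eq_pow_iff_modEq, hz, mul_comm _ k] at h2
    exact h2
  exact ⟨w, hw, h1, chg_eq w h1⟩

include A in
theorem conj_cube (h2 : ∀ y, y ∈ ψ.range ↔ σ y = y) {g : G3} {n : ℕ} (h0 : (n : K3) ≠ 0) (hg : ψ g ^ n = 1) :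
    IsConj (ψ g) (ψ g ^ 3) := by
  obtain ⟨w, hw, t, ht, y, hy⟩ := A.exists_act_eq_pow ((h2 (ψ g)).1 ⟨g, rfl⟩) fun e => h0 (by
    obtain ⟨k, hk⟩ := orderOf_dvd_of_pow_eq_one hg
    rw [hk, Nat.cast_mul, e, zero_mul])
  obtain ⟨m, -, hm⟩ := (stS chevE8 K3).exists_acts hw
  refine isConj_iff.2 ⟨y⁻¹ * m * y, ?_⟩
  have := A.r3.conj_torHom hm t
  rw [ht, map_pow, ← hy, conj_pow] at this
  calc _ = y⁻¹ * (m * (y * ψ g * y⁻¹) * m⁻¹) * y := by group
    _ = _ := by rw [this]; group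

theorem conj_tor {G : Type*} [Group G] {y g t : G} {k : ℕ} (e : y * g * y⁻¹ = t) (h : IsConj g (g ^ k)) :
    IsConj t (t ^ k) :=
  (isConj_iff.2 ⟨y, e⟩).symm.trans (h.trans (isConj_iff.2 ⟨y, by rw [← e, conj_pow]⟩))

theorem fr_tor {y g : chevE8.SteinbergGroup K3} {t : Fin 8 → K3ˣ} (e : y * g * y⁻¹ = A.r3.torHom t) {z : K3ˣ} {n : ℕ}
    (hz : orderOf z = n) {f : ℕ → ℕ} (he : ∀ i : Fin 248, uchr t (wtA chevE8 i) = z ^ f i) {k : ℕ} (hk : k < n) :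
    finrank K3 (((w248 K3).E g).eigenspace ((z : K3) ^ k)) = #{i : Fin 248 | f i % n = k} := by
  rw [finrank_conj _ (isConj_iff.2 ⟨y, e⟩)]
  refine (w248 K3).finrank_tor t _ _ fun i => ?_
  rw [w248_wt, he, ← Units.val_pow_eq_pow_val, Units.val_inj, pow_eq_pow_iff_modEq, hz, Nat.ModEq, Nat.mod_eq_of_lt hk]

theorem eq_one_tor (h1 : Injective ψ) {y : chevE8.SteinbergGroup K3} {g : G3} {t : Fin 8 → K3ˣ}
    (e : y * ψ g * y⁻¹ = A.r3.torHom t) {z : K3ˣ} {n : ℕ} (hz : orderOf z = n) {f : ℕ → ℕ}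
    (he : ∀ i : Fin 248, uchr t (wtA chevE8 i) = z ^ f i) (h : ∀ i : Fin 248, f i % n = 0) : g = 1 := by
  rw [(w248 K3).faith t fun i => (he i).trans (orderOf_dvd_iff_pow_eq_one.1 (hz ▸ Nat.dvd_of_mod_eq_zero (h i))),
    map_one] at e
  exact h1 (by simpa using e)

theorem exists_unit (n : ℕ) (h : ¬ 3 ∣ n) : ∃ z : K3ˣ, IsPrimitiveRoot (z : K3) n ∧ orderOf z = n := by
  obtain ⟨-, z, hz⟩ := exists_root 3 h
  obtain ⟨z, rfl⟩ := hz.isUnit (by rintro rfl; simp at h)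
  exact ⟨z, hz, (IsPrimitiveRoot.coe_units_iff.1 hz).eq_orderOf.symm⟩

theorem hp (g : G3) (n : ℕ) (h : g ^ n = 1) : ψ g ^ n = 1 := by rw [← map_pow, h, map_one]

variable (h1 : Injective ψ) (h2 : ∀ y, y ∈ ψ.range ↔ σ y = y)
include A h1 h2

theorem dat_t8 (g : G3) (hg : g ^ 8 = 1) : g = 1 ∨ (Cod.T ((w248 K3).E.comp ψ) g, Cod.T ((w248 K3).E.comp ψ) (g ^ 2),
    Cod.T ((w248 K3).E.comp ψ) (g ^ 4)) ∈ L8 := by
  obtain ⟨h0, z, hz⟩ := exists_root 3 (n := 8) (by norm_num)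
  obtain ⟨H, a1, a2, a3⟩ := exists_hist A (w248 _) ((w248_wt (K := K3)).symm ▸ tab8_8) hz (Q := q8_8) alc8_8 (hp _ _ hg)
  have a4 : ∀ k, d8 (H k) = Cod.T ((w248 K3).E.comp ψ) (g ^ k) := fun k => by
    rw [d8, a2 k 0 (by norm_num), a2 k 4 (by norm_num), Cod.T, TW, top_inf_eq, top_inf_eq, pow_zero,
      (hz.pow (by norm_num) (show 8 = 4 * 2 from rfl)).eq_neg_one_of_two_right, MonoidHom.comp_apply (w248 K3).E ψ,
      map_pow ψ]
  replace a1 := q8_spec a1 (a3 1 3 (by rw [pow_one]; exact conj_cube A h2 h0 (hp _ _ hg)))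
  rw [a2 1 0 (by norm_num), a4, a4, a4, pow_one, pow_one, pow_zero] at a1
  exact a1.imp_left fun e => h1 ((eq_one_of_finrank A (w248 _) h0 (hp _ _ hg) e).trans (map_one ψ).symm)

theorem dat_f5 (g : G3) (hg : g ^ 5 = 1) (z : K3) (hz : IsPrimitiveRoot z 5) : g = 1 ∨
    finrank K3 (((w248 K3).E (ψ g)).eigenspace 1) = 68 ∨
    ∀ k : Fin 4, finrank K3 (((w248 K3).E (ψ g)).eigenspace (z ^ (k.1 + 1))) = 50 := by
  obtain ⟨z, rfl⟩ := hz.isUnit (by norm_num)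
  have ho := (IsPrimitiveRoot.coe_units_iff.1 hz).eq_orderOf.symm
  obtain ⟨s, b1, y, t, b2, b3⟩ := exists_alcS A (w248 K3) ((w248_wt (K := K3)).symm ▸ tab8_5) hz alc8_5 (hp _ _ hg)
  obtain ⟨w, hw, c1, c2⟩ := perm_of_conj A (conj_tor b2 (conj_cube A h2 hz.neZero'.out (hp _ _ hg))) ho b3
  rw [c2, Bool.false_or, decide_eq_true_eq] at b1
  rcases b1 with b1 | b1 | b1 | ⟨k, b1, b4⟩
  · exact Or.inl (eq_one_tor A h1 b2 ho b3 b1)
  · exact Or.inr (Or.inl ((fr_tor A b2 ho b3 (k := 0) (by norm_num)).trans b1 ▸ by rw [pow_zero]))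
  · exact Or.inr (Or.inr fun k => (fr_tor A b2 ho b3 (by omega)).trans (b1 k))
  · refine (b4 fun j => ?_).elim
    have : vsum (fun r => lk s 16 65535 r % 5 = k) =
        (rootSys chevE8).coM w *ᵥ vsum (fun r => 3 * lk s 16 65535 r % 5 = k) := by
      have e : ∀ (p : Fin 240 → Prop) [DecidablePred p], vsum p = ∑ r with p r, (rootSys chevE8).wt r := fun p _ =>
        funext fun j => by rw [Finset.sum_apply]; exact sum_congr rfl fun r _ => (rootSys_wt' (D := chevE8) r j).symm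
      rw [e, e, mulVec_sum, sum_filter, sum_filter, ← Equiv.sum_comp w fun r =>
        if 3 * lk s 16 65535 r % 5 = k then (rootSys chevE8).coM w *ᵥ (rootSys chevE8).wt r else 0]
      exact sum_congr rfl fun r _ => by rw [c1]; exact congrArg (ite _ · _) (RootSys.coM_mulVec_wt hw r).symm
    rw [this]
    exact dvd_sum (s := univ) fun i _ => (b1 i).mul_left ((rootSys chevE8).coM w j i)

theorem dat_f11 (g : G3) (hg : g ^ 11 = 1) : g = 1 ∨ finrank K3 (((w248 K3).E (ψ g)).eigenspace 1) = 28 ∧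
    ∀ u, Commute u g → u ^ 3 = 1 → 101 ≤ finrank K3 (((w248 K3).E (ψ u)).eigenspace 1) := by
  obtain ⟨z, hz, ho⟩ := exists_unit 11 (by norm_num)
  obtain ⟨s, b1, y, t, b2, b3⟩ := exists_alcS A (w248 K3) ((w248_wt (K := K3)).symm ▸ tab8_11) hz alc8_11 (hp _ _ hg)
  obtain ⟨w, hw, -, c2⟩ := perm_of_conj A (conj_tor b2 (conj_cube A h2 hz.neZero'.out (hp _ _ hg))) ho b3
  rw [c2, Bool.false_or, decide_eq_true_eq] at b1
  refine b1.imp (eq_one_tor A h1 b2 ho b3) fun ⟨b1, b4⟩ =>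
    ⟨(fr_tor A b2 ho b3 (k := 0) (by norm_num)).trans b1 ▸ by rw [pow_zero], fun u hu h3 => ?_⟩
  obtain ⟨x, hx, hx'⟩ := exists_unit 37 (by norm_num)
  have c3 : ∀ i : Fin 248, uchr (fun i => x ^ vecL [1, 7, 33, 28, 16, 4, 29, 22] i) (wtA chevE8 i) =
      x ^ lk lab11 8 255 i := fun i => by
    rw [uchr_zpow_const, ← zpow_natCast, zpow_eq_zpow_iff_modEq, hx']; exact lab11_eq i
  have c4 := (A.centralizer_torHom t).le (x := y * ψ u * y⁻¹)
    (Subgroup.mem_centralizer_singleton_iff.2 (by rw [← b2]; exact ((hu.map ψ).map (MulAut.conj y)).eq))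
  have c5 := Subgroup.mem_centralizer_singleton_iff.1 (A.r3.XS_Phi_le A.good (fun i => x ^ vecL [1, 7, 33, 28, 16, 4, 29, 22] i)
    (sup_le_sup_right ((stS chevE8 K3).XS_mono fun r hr => ?_) _ c4))
  · have c6 := graded_le (μ := fun j : Fin 37 => (x : K3) ^ j.1) (fun a b e => Fin.ext (hx.pow_inj a.2 b.2 e))
      ((show Commute _ _ from c5.symm).map (w248 K3).E) (by rw [← map_pow, conj_pow, hp _ _ h3]; simp)
    rw [← finrank_conj _ (isConj_iff.2 ⟨y, rfl⟩), sum_congr rfl fun j _ => by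
      rw [fr_tor A (y := 1) (by rw [one_mul, inv_one, mul_one]; rfl) hx' c3 j.2]] at c6
    exact lab11_sum.trans c6
  · have := (b3 (Fin.castAdd 8 r)).symm.trans ((congrArg (uchr t) (wtA_cast r)).trans hr)
    rw [← orderOf_dvd_iff_pow_eq_one, ho, Nat.dvd_iff_mod_eq_zero] at this
    exact (congrArg (uchr _) (wtA_cast r)).symm.trans ((c3 _).trans (by rw [b4 _ this, pow_zero]))

theorem dat_f31 (g : G3) (hg : g ^ 31 = 1) : g = 1 ∨ finrank K3 (((w248 K3).E (ψ g)).eigenspace 1) = 8 := by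
  obtain ⟨z, hz, ho⟩ := exists_unit 31 (by norm_num)
  have := Fact.mk (by norm_num : Nat.Prime 31)
  obtain ⟨a1, a2, a3, a4⟩ := dat31
  generalize vecL [1, 14, 22, 25, 23, 17, 10, 23] = U at a2 a3 a4
  obtain ⟨y, ⟨_, a, rfl⟩, b1, -⟩ := exists_syl A h1 h2 (word_mem_W (D := chevE8) _) (C := Subgroup.zpowers z)
    (MonoidHom.mk' (fun c i => c.1 ^ U i) fun c d => by ext i; simp [mul_zpow])
    (fun c d e => Subtype.ext (by simpa [a2] using congrFun e (0 : Fin 8))) (fun ⟨_, a, rfl⟩ => by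
      change (rootSys chevE8).act _ (fun i => (z ^ a) ^ U i) = (fun i => (z ^ a) ^ U i) ^ 3
      rw [RootSys.act_zpow_const, (coM_word (D := chevE8) _).trans a1]
      funext i
      rw [Pi.pow_apply, ← zpow_natCast, ← zpow_mul, ← zpow_mul, ← zpow_mul, zpow_eq_zpow_iff_modEq, ho]
      exact (a3 i).mul_left a) (a := 1) (by rw [Nat.card_zpowers, ho]; rfl) (by rw [card_G3]; decide +kernel) hg
  change _ = A.r3.torHom fun i => (z ^ a) ^ U i at b1
  by_cases c : z ^ a = 1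
  · exact Or.inl (eq_one_tor A h1 b1 ho (f := fun _ => 0) (fun i => by simp [c, uchr]) fun _ => rfl)
  refine Or.inr ((finrank_conj _ (isConj_iff.2 ⟨y, b1⟩) _).trans (((w248 K3).finrank_tor _ _ (fun i => 240 ≤ i.1)
    fun i => ?_).trans (by decide +kernel)))
  rw [w248_wt, uchr_zpow_const, Units.val_eq_one, ← orderOf_dvd_iff_zpow_eq_one, ← a4,
    orderOf_eq_prime (p := 31) (by rw [← zpow_natCast, ← zpow_mul, mul_comm, zpow_mul, zpow_natCast, ← ho,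
      pow_orderOf_eq_one, one_zpow]) c]
  rfl

theorem dat_n41 (g : G3) (hg : g ^ 41 = 1) (hc : IsConj g (g ^ 2)) : g = 1 := by
  obtain ⟨z, hz, ho⟩ := exists_unit 41 (by norm_num)
  have := Fact.mk (by norm_num : Nat.Prime 41)
  obtain ⟨a1, a2, a3, a4, a5, a6⟩ := ok41
  have e := (coM_word (D := chevE8) td41.l).trans a1
  obtain ⟨y, a, ha, b, hb, h3, -⟩ := E83.exists_pt A h1 h2 (word_mem_W (D := chevE8) td41.l)
    (by rw [card_G3]; decide +kernel) a2 (e ▸ a3) (e ▸ a4) (e ▸ a5) ho hg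
  have h5 : ∀ i : Fin 248, uchr (fun i => z ^ ((a : ℤ) • vecL td41.U + (b : ℤ) • vecL td41.V) i) (wtA chevE8 i) =
      z ^ td41.ex a b i := fun i => by
    rw [uchr_zpow_const, ← zpow_natCast, zpow_eq_zpow_iff_modEq, ho, add_dotProduct, smul_dotProduct, smul_dotProduct]
    exact_mod_cast ((a6 i).1.mul_left a).add ((a6 i).2.mul_left b)
  obtain ⟨w, -, -, c2⟩ := perm_of_conj A (conj_tor h3 (by rw [← map_pow]; exact ψ.map_isConj hc)) ho h5
  have c1 := (allLt_iff _ _).1 ((allLt_iff _ _).1 chk41 a ha) b hb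
  rw [c2, Bool.or_false, Bool.and_eq_true, Nat.beq_eq, Nat.beq_eq] at c1
  exact eq_one_tor A h1 h3 ho h5 fun i => by rw [c1.1, c1.2]; simp [TD.ex]

omit A h1 h2 in
theorem exists_dat : ∃ ρ, Dat ρ := by
  obtain ⟨φ, σ, ψ, A, h1, h2, -⟩ := exists_alg (F := ZMod 3) (D := chevE8) (by simp) card_ker_E8
  rw [ZMod.card] at A
  exact ⟨(w248 K3).E.comp ψ, dat_t8 A h1 h2, dat_f5 A h1 h2, dat_f11 A h1 h2, dat_f31 A h1 h2, dat_n41 A h1 h2⟩

end CL.E83
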