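/-
`E₈(3)` has no subgroup `L₂(41)` or `L₂(32)`.
-/
import Cfsg.Agent.KSG.E83.Dat

set_option autoImplicit false

namespace CL.E83
open Module Function Finset CL.SL2Wt CL.AltE Matrix Module.End
open scoped MatrixGroups

variable {F : Type*} [Field F]

theorem up_pow (t : F) (n : ℕ) : up t ^ n = up (n * t) := by
  induction n with
  | zero => rw [pow_zero, Nat.cast_zero, zero_mul, up_zero]
  | succ n ih => rw [pow_succ, ih, ← up_add, Nat.cast_succ, add_mul, one_mul]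

theorem dg_up (a : Fˣ) (t : F) : dg a * up t * (dg a)⁻¹ = up ((a : F)⁻¹ * (a : F)⁻¹ * t) :=
  mul_inv_eq_iff_eq_mul.2 (ext4 (by simp [up, dg, mul_ap]; field_simp))

theorem ev_of_trace {K : Type*} [Field K] (f : F →+* K) {g : SL(2, F)} {ν : K} (h0 : ν ≠ 0) (h1 : ν ^ 2 ≠ 1)
    (hc : g 1 0 ≠ 0) (h : f (g 0 0 + g 1 1) = ν + ν⁻¹) : Ev f g ν := by
  have hd := congrArg f g.det_coe
  rw [det_fin_two, map_sub, map_mul, map_mul, map_one] at hd
  rw [map_add] at h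
  have hi := mul_inv_cancel₀ h0
  refine ⟨![ν - f (g 1 1), f (g 1 0)], ![ν⁻¹ - f (g 1 1), f (g 1 0)], fun e => h1 ?_, Fin.forall_fin_two.2 ⟨?_, ?_⟩,
    Fin.forall_fin_two.2 ⟨?_, ?_⟩⟩ <;> simp only [cons_val_zero, cons_val_one, cons_val_fin_one] at *
  · exact mul_left_cancel₀ ((map_ne_zero f).2 hc) (by linear_combination ν * e + f (g 1 0) * hi)
  · linear_combination ν * h - hd + hi
  · ring
  · linear_combination ν⁻¹ * h - hd + hi
  · ring

theorem not_cen {θ : SL(2, F) →* G3} (hθ : ∀ g, θ g = 1 ↔ g ∈ Subgroup.center SL(2, F)) {g : SL(2, F)}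
    (h : g 0 1 ≠ 0 ∨ g 0 0 ≠ g 1 1) : θ g ≠ 1 := fun e => by
  obtain ⟨r, -, e⟩ := Matrix.SpecialLinearGroup.mem_center_iff.1 ((hθ g).1 e)
  rw [← e] at h
  simp at h

variable [Fintype F]

theorem no41 (h : Fintype.card F = 41) (H : Subgroup G3) : IsEmpty (H ≃* ProjectiveSpecialLinearGroup (Fin 2) F) := ⟨fun e => by
  obtain ⟨θ, hθ⟩ := exists_theta _ H e
  obtain ⟨ρ, D⟩ := exists_dat
  have h0 : (41 : F) = 0 := by simpa [h] using FiniteField.cast_card_eq_zero F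
  refine not_cen hθ (g := up 1) (by simp [up]) (D.n41 _ ?_ ?_)
  · rw [← map_pow, up_pow, Nat.cast_ofNat, h0, zero_mul, up_zero, map_one]
  · rw [← map_pow, up_pow]
    refine θ.map_isConj (isConj_iff.2 ⟨mk 17 0 0 29 (by linear_combination 12 * h0),
      mul_inv_eq_iff_eq_mul.2 (ext4 ?_)⟩)
    simp [up, mul_ap]
    linear_combination -h0⟩

theorem Dat.inv {ρ : G3 →* End K3 (Fin 248 → K3)} (D : Dat ρ) {g : G3} (h2 : g ^ 2 = 1) (h1 : g ≠ 1) :
    finrank K3 ((ρ g).eigenspace 1) = 120 ∨ finrank K3 ((ρ g).eigenspace 1) = 136 := by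
  have h0 : (2 : K3) ≠ 0 := (exists_root 3 (n := 2) (by norm_num)).1
  have h3 := (D.t8 g (by rw [show 8 = 2 * 4 from rfl, pow_mul, h2, one_pow])).resolve_left h1
  have h4 := finrank_split2 h0 (U := ⊤) (g := ρ 1) (fun _ _ => trivial) (by simp)
  have h5 := finrank_split2 h0 (U := ⊤) (g := ρ g) (fun _ _ => trivial) fun v _ => by
    rw [← End.mul_apply, ← map_mul, ← sq, h2, map_one, End.one_apply]
  have h6 := finrank_one ρ
  have h7 : ∀ x ∈ L8, x.2.1 = 248 → x.1 = -8 ∨ x.1 = 24 := by decide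
  have h8 := h7 _ h3
  rw [h2] at h8
  simp only [Cod.T, TW, finrank_top, finrank_fin_fun] at h4 h5 h8
  rw [top_inf_eq, top_inf_eq] at h4 h5
  rw [top_inf_eq, top_inf_eq, top_inf_eq, top_inf_eq] at h8
  omega

theorem no32 (h : Fintype.card F = 32) (H : Subgroup G3) : IsEmpty (H ≃* ProjectiveSpecialLinearGroup (Fin 2) F) := ⟨fun e => by
  classical
  obtain ⟨θ, hθ⟩ := exists_theta _ H e
  obtain ⟨ρ, D⟩ := exists_dat
  have : CharP F 2 := charP_of_card_eq_prime_pow (f := 5) h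
  have h2 : (2 : F) = 0 := CharP.cast_eq_zero F 2
  let f := algebraMap F (AlgebraicClosure F)
  have : NeZero ((33 : ℕ) : AlgebraicClosure F) := ⟨by rw [Ne, CharP.cast_eq_zero_iff _ 2]; norm_num⟩
  obtain ⟨ν', hν'⟩ := HasEnoughRootsOfUnity.exists_primitiveRoot (AlgebraicClosure F) 33
  obtain ⟨c, hc⟩ := exists_ev (f := f) (ν := ν') (by rw [h]; exact hν')
  have hν := hν'.pow (by norm_num) (show 33 = 3 * 11 from rfl)
  obtain ⟨x, y, a1, a2, a3⟩ := ev_pow hc 3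
  generalize ν' ^ 3 = ν at hν a2 a3
  obtain ⟨τ, hτ⟩ : ∃ τ, f τ = ν + ν⁻¹ := ⟨(c ^ 3) 0 0 + (c ^ 3) 1 1, mul_left_cancel₀ a1 (by
    rw [map_add]
    linear_combination y 1 * a2 0 - x 1 * a3 0 + x 0 * a3 1 - y 0 * a2 1)⟩
  have h0 := hν.ne_zero (by norm_num)
  have hm : τ ^ 5 + τ ^ 4 + τ ^ 2 + τ + 1 = 0 := by
    have : τ ^ 5 + τ ^ 4 - 4 * τ ^ 3 - 3 * τ ^ 2 + 3 * τ + 1 = 0 := f.injective (by
      have := hν.geom_sum_eq_zero (by norm_num)
      simp only [sum_range_succ, range_zero, sum_empty] at this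
      simp only [map_add, map_sub, map_mul, map_pow, hτ, map_ofNat, map_one, map_zero]
      field_simp
      linear_combination this)
    linear_combination this + (2 * τ ^ 3 + 2 * τ ^ 2 - τ) * h2
  have h11 : ∀ g : SL(2, F), g 1 0 ≠ 0 → g 0 1 ≠ 0 → g 0 0 + g 1 1 = τ → finrank K3 ((ρ (θ g)).eigenspace 1) = 28 ∧
      ∀ u, Commute u (θ g) → u ^ 3 = 1 → 101 ≤ finrank K3 ((ρ u).eigenspace 1) := fun g b1 b2 b3 => by
    have := ev_pow (ev_of_trace f h0 (hν.pow_ne_one_of_pos_of_lt two_ne_zero (by norm_num)) b1 (b3 ▸ hτ)) 11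
    rw [hν.pow_eq_one] at this
    exact (D.f11 _ (by rw [← map_pow, ev_one this, map_one])).resolve_left (not_cen hθ (Or.inl b2))
  have t0 : τ ≠ 0 := fun e => by simp [e] at hm
  have t1 : τ + 1 ≠ 0 := fun e => one_ne_zero (by linear_combination hm - (τ ^ 4 + τ) * e)
  let u : SL(2, F) := mk 0 (-1) 1 (-1) (by simp)
  let w : SL(2, F) := mk 0 1 1 0 (by linear_combination -h2)
  let a : Fˣ := Units.mkOfMulEqOne (τ ^ 4 + τ ^ 3 + τ ^ 2 + 1) (τ ^ 4 + τ ^ 2 + 1) (by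
    linear_combination τ ^ 3 * hm + (τ ^ 2 + τ ^ 4 + τ ^ 6) * h2)
  have hai : (a : F)⁻¹ = τ ^ 4 + τ ^ 2 + 1 := (Units.val_inv_eq_inv_val a).symm
  have ha : (a : F) = τ ^ 4 + τ ^ 3 + τ ^ 2 + 1 := rfl
  have hc31 : Nat.card Fˣ = 31 := by rw [Nat.card_units, Nat.card_eq_fintype_card, h]
  have := Fact.mk (by norm_num : Nat.Prime 31)
  have ho : orderOf a = 31 := orderOf_eq_prime (hc31 ▸ pow_card_eq_one') fun e' => one_ne_zero (α := F) (by
    have e : τ ^ 4 + τ ^ 3 + τ ^ 2 + 1 - 1 = 0 := sub_eq_zero.2 (congrArg Units.val e')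
    linear_combination ((1) * τ ^ 0 + (1) * τ ^ 1 + (1) * τ ^ 2 + (1) * τ ^ 3) * hm + ((-1) * τ ^ 1 + (-2) * τ ^ 2 + (-2) * τ ^ 3 + (-2) * τ ^ 4 + (-2) * τ ^ 5 + (-2) * τ ^ 6 + (-2) * τ ^ 7 + (-1) * τ ^ 8) * h2 + ((1) * τ ^ 0 + (1) * τ ^ 3 + (1) * τ ^ 4) * e)
  have hd : u * u * (up (τ + 1) * u) ^ 5 = dg a := by
    refine ext4 ?_
    simp only [pow_succ, pow_zero, one_mul, mul_ap, u, up, dg, mk00, mk01, mk10, mk11, hai]
    simp only [ha]
    refine ⟨?_, ?_, ?_, ?_⟩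
    · linear_combination hm + (-1 - 2 * τ - τ ^ 2 + 2 * τ ^ 3 - τ ^ 4 - τ ^ 5) * h2
    · linear_combination hm + (τ - 2 * τ ^ 2 - 2 * τ ^ 3) * h2
    · linear_combination hm + (-1 - 2 * τ + τ ^ 2 + 2 * τ ^ 3 - τ ^ 4 - τ ^ 5) * h2
    · linear_combination hm + (-4 * τ ^ 2 - 2 * τ ^ 3) * h2
  have hk : ∀ s t : F, s ≠ 0 → t ≠ 0 → ∃ k : ℕ, dg a ^ k * up s * (dg a ^ k)⁻¹ = up t := fun s t hs ht => by
    obtain ⟨k, hk⟩ := mem_powers_of_prime_card hc31 (g := a⁻¹ ^ 2) (g' := Units.mk0 _ (div_ne_zero ht hs))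
      (pow_ne_one_of_lt_orderOf two_ne_zero (by rw [orderOf_inv, ho]; norm_num))
    refine ⟨k, ?_⟩
    have := congrArg Units.val hk
    simp only [Units.val_pow_eq_pow_val, Units.val_inv_eq_inv_val, Units.val_mk0] at this
    rw [dg_pow, dg_up, Units.val_pow_eq_pow_val, ← inv_pow, ← mul_pow, ← sq, this, div_mul_cancel₀ _ hs]
  have hu : ∀ t : F, t ≠ 0 → finrank K3 ((ρ (θ (up t))).eigenspace 1) = finrank K3 ((ρ (θ w)).eigenspace 1) := fun t ht => by
    obtain ⟨k, hk⟩ := hk t 1 ht one_ne_zero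
    refine finrank_conj (ρ.comp θ) ((isConj_iff.2 ⟨_, hk⟩).trans (isConj_iff.2 ⟨mk 1 0 1 1 (by simp),
      mul_inv_eq_iff_eq_mul.2 (ext4 ?_)⟩)) 1
    simp [up, w, mul_ap]
    linear_combination h2
  have hw : finrank K3 ((ρ (θ w)).eigenspace 1) = 120 := by
    have hw2 : w ^ 2 = 1 := ext4 (by simp [w, sq, mul_ap])
    refine (D.inv (by rw [← map_pow, hw2, map_one]) (not_cen hθ (Or.inl (by simp [w])))).resolve_right fun e => ?_
    have b1 : dg a * w * (dg a)⁻¹ * w = dg (a ^ 2) := by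
      rw [← dg_pow, sq, mul_assoc, mul_assoc, mul_right_inj, ← mul_assoc, ← eq_mul_inv_iff_mul_eq, mul_inv_eq_iff_eq_mul,
        inv_eq_of_mul_eq_one_right (sq w ▸ hw2)]
      exact ext4 (by simp [w, dg, mul_ap])
    have b2 := (D.f31 (θ (dg (a ^ 2))) (by rw [← map_pow, dg_pow, ← hc31, pow_card_eq_one', ← pow_zero a, ← dg_pow,
      pow_zero, map_one])).resolve_left (not_cen hθ (Or.inr fun e => pow_ne_one_of_lt_orderOf (x := a) four_ne_zero
        (by rw [ho]; norm_num) (Units.ext (by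
          have e' := mul_eq_one_iff_inv_eq₀ (a ^ 2).ne_zero |>.2 e
          simpa [dg, ← pow_add] using e'))))
    have b3 := finrank_conj (ρ.comp θ) (isConj_iff.2 ⟨dg a, rfl⟩ : IsConj w _) 1
    have b4 := Submodule.finrank_sup_add_finrank_inf_eq ((ρ (θ (dg a * w * (dg a)⁻¹))).eigenspace 1) ((ρ (θ w)).eigenspace 1)
    have b5 := Submodule.finrank_le ((ρ (θ (dg a * w * (dg a)⁻¹))).eigenspace 1 ⊔ (ρ (θ w)).eigenspace 1)
    have b6 : finrank K3 ↥((ρ (θ (dg a * w * (dg a)⁻¹))).eigenspace 1 ⊓ (ρ (θ w)).eigenspace 1) ≤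
        finrank K3 ((ρ (θ (dg (a ^ 2)))).eigenspace 1) := Submodule.finrank_mono fun v hv => mem_eigenspace_iff.2 (by
      rw [← b1, map_mul θ _ w, map_mul, End.mul_apply, mem_eigenspace_iff.1 hv.2, one_smul, mem_eigenspace_iff.1 hv.1,
        one_smul])
    rw [finrank_fin_fun] at b5
    simp only [MonoidHom.comp_apply] at b3
    omega
  let X : Multiplicative F →* SL(2, F) := ⟨⟨fun t => up t.toAdd, up_zero⟩, fun s t => up_add _ _⟩
  have h3 : ((2 : ℕ) : K3) ≠ 0 := (exists_root 3 (n := 2) (by norm_num)).1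
  have b1 := sum_eig ((ρ.comp θ).comp X) mul_comm h3 (fun e => Multiplicative.ext (by
    rw [toAdd_pow, two_nsmul, ← two_mul, h2, zero_mul]; rfl)) 1
  rw [← add_sum_erase _ _ (mem_univ 1), sum_congr rfl fun e he => (hu e.toAdd (ne_of_mem_erase he)).trans hw, map_one,
    sum_const, card_erase_of_mem (mem_univ _), card_univ, Fintype.card_multiplicative, h, finrank_fin_fun,
    ← map_one ρ, MonoidHom.one_apply, finrank_one] at b1
  have b0 : ⨅ e, (ρ (θ (X e))).eigenspace 1 = ⊥ := Submodule.finrank_eq_zero.1 (by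
    simp only [MonoidHom.comp_apply, MonoidHom.one_apply, smul_eq_mul] at b1
    omega)
  have b2 := scott_grp (ρ.comp θ) (up (τ + 1)) u X (fun e => ?_) (by
    rw [Fintype.card_multiplicative, h, show 32 = 2 ^ 5 from rfl, Nat.cast_pow]; exact pow_ne_zero _ h3) fun v hv =>
      (Submodule.eq_bot_iff _).1 b0 v ((Submodule.mem_iInf _).2 fun e => mem_eigenspace_iff.2 (by simpa using hv e))
  · have b3 := (h11 (up (τ + 1) * u) (by simp [u, up, mul_ap]) (fun e => t0 (by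
      simp only [u, up, mul_ap, mk00, mk01, mk11] at e
      linear_combination -e - h2)) (by simp [u, up, mul_ap])).1
    have b4 := (h11 (mk (τ ^ 4 + τ ^ 2) (-τ) τ (τ ^ 4 + τ ^ 2 - τ) (by
      linear_combination (1 + τ + τ ^ 2 + τ ^ 3) * hm + (-1 - τ - τ ^ 2 - 2 * τ ^ 3 - τ ^ 4 - 2 * τ ^ 5 - τ ^ 7) * h2))
      t0 (neg_ne_zero.2 t0) (by simp only [mk00, mk11]; linear_combination (τ ^ 4 + τ ^ 2 - τ) * h2)).2 (θ u)
      (Commute.map (ext4 (by simp [u, mul_ap]; constructor <;> ring)) θ) (by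
        rw [← map_pow, show u ^ 3 = 1 from ext4 (by simp [u, pow_succ, mul_ap]), map_one])
    have b5 := (hu _ t1).trans hw
    simp only [MonoidHom.comp_apply, finrank_fin_fun] at b2
    omega
  · have c1 : up (τ + 1) ∈ Subgroup.closure {up (τ + 1), u} := Subgroup.subset_closure (by simp)
    have c2 : u ∈ Subgroup.closure {up (τ + 1), u} := Subgroup.subset_closure (by simp)
    by_cases c : e = 1
    · rw [c, map_one]; exact one_mem _
    obtain ⟨k, hk⟩ := hk _ e.toAdd t1 c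
    have c3 := pow_mem (hd ▸ mul_mem (mul_mem c2 c2) (pow_mem (mul_mem c1 c2) 5)) k
    change up e.toAdd ∈ _
    exact hk ▸ mul_mem (mul_mem c3 c1) (inv_mem c3)⟩

end CL.E83
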