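/-
Coded matrices in characteristic three.
-/
import Cfsg.Agent.KSG.E83.L41
import Cfsg.Agent.Eqns.CL_E83_Cod_trs

set_option autoImplicit false

namespace CL.E83
open Module Function Finset CL.SL2Wt CL.AltE Matrix Module.End

/-- a digit -/
def dgt (a k : ℕ) : ℕ := Nat.mod (Nat.div a (Nat.pow 4 k)) 4

/-- packing of residues -/
noncomputable def pk (N : ℕ) (f : ℕ → ℕ) : ℕ := sumN (fun k => Nat.mul (Nat.mod (f k) 3) (Nat.pow 4 k)) N

/-- forces evaluation -/
noncomputable def frc (n : ℕ) (k : ℕ → ℕ) : ℕ := Nat.rec (k 0) (fun m _ => k (Nat.succ m)) n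

theorem frc_eq (n : ℕ) (k : ℕ → ℕ) : frc n k = k n := by cases n <;> rfl

/-- an inner product -/
noncomputable def ip (n a b p q : ℕ) : ℕ := frc p fun p => frc q fun q =>
  sumN (fun m => Nat.mul (dgt a (Nat.add p m)) (dgt b (Nat.add q (Nat.mul n m)))) n

variable {R : Type*} [CommRing R] [CharP R 3]

theorem dgt_pk {N k : ℕ} (f : ℕ → ℕ) (h : k < N) : (dgt (pk N f) k : R) = f k := by
  rw [CharP.cast_eq_mod R 3 (f k), pk, sumN_eq]
  exact congrArg _ (AltE.digit (B := 4) (fun k => f k % 3) (fun i _ => (Nat.mod_lt _ three_pos).trans (by norm_num)) h)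

variable {ι : Type*} [Fintype ι] {n : ℕ} (e : ι ≃ Fin n)

variable (R) in
/-- a block of digits as a matrix -/
def decO (o a : ℕ) : Matrix ι ι R := of fun i j => dgt a (o + (n * e i + e j))

omit [CharP R 3] in
theorem ip_eq (a b o p : ℕ) (i j : ι) : (ip n a b (o + n * e i) (p + e j) : R) = (decO R e o a * decO R e p b) i j := by
  rw [ip, frc_eq, frc_eq, sumN_eq, Matrix.mul_apply, sum_range, Nat.cast_sum, ← e.sum_comp]
  exact sum_congr rfl fun m _ => by simp [decO, add_assoc, add_comm (e j : ℕ)]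

omit [Fintype ι] in
theorem decO_pk {N o : ℕ} (h : o + n * n ≤ N) (f : ℕ → ℕ) (i j : ι) :
    decO R e o (pk N f) i j = f (o + (n * e i + e j)) := dgt_pk f (by
  have := (e j).2
  have := Nat.mul_le_mul_left n (e i).2
  rw [Nat.mul_succ] at this
  omega)

theorem div_ix (i j : Fin n) : Nat.div (n * i + j) n = i ∧ Nat.mod (n * i + j) n = j :=
  (Nat.div_mod_unique i.pos).2 ⟨add_comm _ _, j.2⟩

/-- the product -/
noncomputable def mulR (n a b : ℕ) : ℕ := frc a fun a => frc b fun b =>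
  pk (Nat.mul n n) fun k => ip n a b (Nat.mul n (Nat.div k n)) (Nat.mod k n)

/-- the transpose -/
noncomputable def trR (n a : ℕ) : ℕ := pk (Nat.mul n n) fun k => dgt a (Nat.add (Nat.mul n (Nat.mod k n)) (Nat.div k n))

theorem dec_mulR (a b : ℕ) : decO R e 0 (mulR n a b) = decO R e 0 a * decO R e 0 b := by
  ext i j
  rw [mulR, frc_eq, frc_eq, decO_pk e (by simp), ← ip_eq]
  simp [div_ix]

omit [Fintype ι] in
theorem dec_trR (a : ℕ) : decO R e 0 (trR n a) = (decO R e 0 a)ᵀ := by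
  ext i j
  rw [trR, decO_pk e (by simp)]
  simp [div_ix, decO]

namespace Cod
variable {Q M G : Type*} [Group Q] [Monoid M] [Group G]

/-- codes from a decoding map -/
noncomputable def ofDec {f : Q →* M} (hf : Injective f) (θ : Q →* G) (dec : ℕ → M) (mul : ℕ → ℕ → ℕ) (inv : ℕ → ℕ)
    (ok : ℕ → Bool) (hm : ∀ a b, dec (mul a b) = dec a * dec b) (ho : ∀ a, ok a = true → ∃ q, f q = dec a) : Cod G where
  mul := mul
  inv := inv
  ok := ok
  In a := ∃ q, f q = dec a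
  el a := θ (invFun f (dec a))
  in_ok := ho
  in_mul a b := fun ⟨p, hp⟩ ⟨q, hq⟩ => ⟨p * q, by rw [map_mul, hp, hq, hm]⟩
  el_mul a b := fun ⟨p, hp⟩ ⟨q, hq⟩ => by
    rw [hm, ← hp, ← hq, ← map_mul f, leftInverse_invFun hf, leftInverse_invFun hf, leftInverse_invFun hf, map_mul]

theorem ofDec_one {f : Q →* M} {hf : Injective f} {θ : Q →* G} (hθ : ∀ g, θ g = 1 ↔ g ∈ Subgroup.center Q)
    {dec : ℕ → M} {mul : ℕ → ℕ → ℕ} {inv : ℕ → ℕ} {ok : ℕ → Bool} {hm : ∀ a b, dec (mul a b) = dec a * dec b}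
    {ho : ∀ a, ok a = true → ∃ q, f q = dec a} {a : ℕ} (ha : ok a = true) :
    (ofDec hf θ dec mul inv ok hm ho).el a = 1 ↔ ∀ q, f q * dec a = dec a * f q := by
  obtain ⟨p, hp⟩ := ho a ha
  simp only [ofDec, ← hp, leftInverse_invFun hf p, hθ, Subgroup.mem_center_iff, ← map_mul, hf.eq_iff]

/-- the computational part -/
def raw (mul : ℕ → ℕ → ℕ) (inv : ℕ → ℕ) (ok : ℕ → Bool) : Cod Unit :=
  ⟨mul, inv, ok, fun _ => True, fun _ => 1, fun _ _ => trivial, fun _ _ _ _ => trivial, fun _ _ _ _ => rfl⟩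

theorem ofDec_raw {f : Q →* M} (hf : Injective f) (θ : Q →* G) (dec : ℕ → M) (mul : ℕ → ℕ → ℕ) (inv : ℕ → ℕ)
    (ok : ℕ → Bool) (hm : ∀ a b, dec (mul a b) = dec a * dec b) (ho : ∀ a, ok a = true → ∃ q, f q = dec a) :
    raw mul inv ok = raw (ofDec hf θ dec mul inv ok hm ho).mul (ofDec hf θ dec mul inv ok hm ho).inv
      (ofDec hf θ dec mul inv ok hm ho).ok := rfl

variable {K V : Type*} [Field K] [AddCommGroup V] [Module K V] (C : Cod G)

theorem trs_raw (t l : List (Bool × ℕ)) : C.trs t l = (raw C.mul C.inv C.ok).trs t l := by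
  induction l generalizing t with
  | nil => rfl
  | cons g l ih => rw [trs, ih]; rfl

theorem con_raw {o : ℕ} {Z : List (Bool × ℕ)} {R : List (ℕ × ℕ)} {l : List (Bool × ℕ)} {d : List (ℕ × ℕ)} {f : List ℤ}
    (h : (raw C.mul C.inv C.ok).con o Z R l d f = true) : C.con o Z R l d f = true := by
  have h1 : ∀ l t, C.cen t l = (raw C.mul C.inv C.ok).cen t l := fun l => by
    induction l with
    | nil => exact fun _ => rfl
    | cons g l ih => intro t; rw [cen, ih]; rfl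
  have h2 : ∀ p d, C.coef R p d = (raw C.mul C.inv C.ok).coef R p d := fun p => by
    induction p with
    | nil => exact fun _ => rfl
    | cons a p ih => rintro (_ | ⟨c, d⟩); exacts [rfl, by rw [coef, ih]; rfl]
  rw [con, h1, h2]
  exact h

/-- the check of the extended list of representatives -/
def ext (Z : List (Bool × ℕ)) (P : List ℕ) (R : List (ℕ × ℕ)) : Bool := P.all C.ok &&
  R.all fun x => Nat.blt x.2 P.length && Z.any fun z => Nat.beq (C.mul z.2 (P.getD x.2 0)) x.1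

/-- the check of a square -/
def sqc (Z : List (Bool × ℕ)) (a b : ℕ) : Bool := C.ok a && C.ok b && Z.any fun z => Nat.beq (C.mul a a) (C.mul z.2 b)

variable {C}

theorem tr_one {Z : List (Bool × ℕ)} (hZ : ∀ z ∈ Z, z.1 = false ∧ C.In z.2 ∧ C.el z.2 = 1) (ρ : G →* End K V) :
    C.Tr ρ ⊤ Z := fun z hz => ⟨(hZ z hz).2.1, fun w _ => by simp [r, sg, hZ z hz]⟩

theorem ext_spec {Z : List (Bool × ℕ)} (hZ : ∀ z ∈ Z, z.1 = false ∧ C.In z.2 ∧ C.el z.2 = 1) (ρ : G →* End K V)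
    {P : List ℕ} {R : List (ℕ × ℕ)} (h : (raw C.mul C.inv C.ok).ext Z P R = true) :
    ∀ x ∈ R, C.In x.1 ∧ x.2 < P.length ∧ T ρ (C.el x.1) = T ρ (C.el (P.getD x.2 0)) := fun x hx => by
  change C.ext Z P R = true at h
  simp only [ext, Bool.and_eq_true, List.all_eq_true, List.any_eq_true, Nat.blt_eq, Nat.beq_eq] at h
  obtain ⟨h1, z, hz, e⟩ := h.2 x hx
  have h2 := C.in_ok _ (h.1 (P.getD x.2 0) (by rw [List.getD_eq_getElem _ _ h1]; exact List.getElem_mem h1))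
  rw [← e, C.el_mul _ _ (hZ z hz).2.1 h2, (hZ z hz).2.2, one_mul]
  exact ⟨C.in_mul _ _ (hZ z hz).2.1 h2, h1, rfl⟩

theorem sq_spec {Z : List (Bool × ℕ)} (hZ : ∀ z ∈ Z, z.1 = false ∧ C.In z.2 ∧ C.el z.2 = 1) {a b : ℕ}
    (h : (raw C.mul C.inv C.ok).sqc Z a b = true) : C.el a ^ 2 = C.el b := by
  change C.sqc Z a b = true at h
  simp only [sqc, Bool.and_eq_true, List.any_eq_true, Nat.beq_eq] at h
  obtain ⟨⟨a1, a2⟩, z, hz, e⟩ := h
  rw [sq, ← C.el_mul _ _ (C.in_ok _ a1) (C.in_ok _ a1), e, C.el_mul _ _ (hZ z hz).2.1 (C.in_ok _ a2), (hZ z hz).2.2,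
    one_mul]

end Cod

theorem T_one (ρ : G3 →* End K3 (Fin 248 → K3)) : Cod.T ρ 1 = 248 := by
  have h0 : (2 : K3) ≠ 0 := (exists_root 3 (n := 2) (by norm_num)).1
  have h4 := finrank_split2 h0 (U := ⊤) (g := ρ 1) (fun _ _ => trivial) (by simp)
  have h6 := finrank_one ρ
  simp only [Cod.T, TW, finrank_top, finrank_fin_fun] at h4 ⊢
  rw [top_inf_eq, top_inf_eq] at h4 ⊢
  omega

theorem Dat.t8' {ρ : G3 →* End K3 (Fin 248 → K3)} (D : Dat ρ) {a b c : G3} (h1 : a ^ 2 = b) (h2 : b ^ 2 = c)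
    (h3 : c ^ 2 = 1) (h4 : a ≠ 1) : (Cod.T ρ a, Cod.T ρ b, Cod.T ρ c) ∈ L8 := by
  subst h1 h2
  rw [← pow_mul] at h3 ⊢
  exact (D.t8 a (by rw [← h3, ← pow_mul])).resolve_left h4

end CL.E83
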