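/-
Coded matrices over the field with nine elements.
-/
import Cfsg.Agent.KSG.E83.Mat

set_option autoImplicit false

namespace CL.E83
open Module Function Finset Matrix Module.End

/-- the product -/
noncomputable def mulC (a b : ℕ) : ℕ := frc a fun a => frc b fun b => pk 32 fun k =>
  frc (Nat.mul 4 (Nat.div (Nat.mod k 16) 4)) fun p => frc (Nat.mod k 4) fun q => bif Nat.blt k 16 then
    Nat.add (ip 4 a b p q) (Nat.mul 2 (ip 4 a b (Nat.add 16 p) (Nat.add 16 q))) else
    Nat.add (ip 4 a b p (Nat.add 16 q)) (ip 4 a b (Nat.add 16 p) q)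

/-- the conjugate transpose -/
noncomputable def adjC (a : ℕ) : ℕ := frc a fun a => pk 32 fun k =>
  frc (Nat.add (Nat.mul 4 (Nat.mod k 4)) (Nat.div (Nat.mod k 16) 4)) fun p =>
    bif Nat.blt k 16 then dgt a p else Nat.mul 2 (dgt a (Nat.add 16 p))

/-- the determinant -/
def det4 {R : Type*} [CommRing R] (f : Fin 4 → Fin 4 → R) : R :=
  (f 0 0 * f 1 1 - f 0 1 * f 1 0) * (f 2 2 * f 3 3 - f 2 3 * f 3 2) -
  (f 0 0 * f 1 2 - f 0 2 * f 1 0) * (f 2 1 * f 3 3 - f 2 3 * f 3 1) +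
  (f 0 0 * f 1 3 - f 0 3 * f 1 0) * (f 2 1 * f 3 2 - f 2 2 * f 3 1) +
  (f 0 1 * f 1 2 - f 0 2 * f 1 1) * (f 2 0 * f 3 3 - f 2 3 * f 3 0) -
  (f 0 1 * f 1 3 - f 0 3 * f 1 1) * (f 2 0 * f 3 2 - f 2 2 * f 3 0) +
  (f 0 2 * f 1 3 - f 0 3 * f 1 2) * (f 2 0 * f 3 1 - f 2 1 * f 3 0)

theorem det4_eq {R : Type*} [CommRing R] (M : Matrix (Fin 4) (Fin 4) R) : M.det = det4 M := by
  simp [det4, det_succ_row_zero, Fin.sum_univ_succ, Fin.succAbove]
  ring

/-- the check of the unitary condition -/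
noncomputable def okC (a : ℕ) : Bool := AltE.forceN a fun a => Nat.beq (mulC (adjC a) a) 1074791425 &&
  (fun z : ℤ√(-1) => z.re % 3 == 1 && z.im % 3 == 0) (det4 fun i j => ⟨dgt a (4 * i + j), dgt a (16 + (4 * i + j))⟩)

variable {F : Type*} [Field F] [CharP F 3] {ι : F}

/-- decoding -/
def decC (ι : F) (a : ℕ) : Matrix (Fin 4) (Fin 4) F :=
  decO F (Equiv.refl _) 0 a + ι • decO F (Equiv.refl _) 16 a

theorem ix4 (i j : Fin 4) : (Nat.div (Nat.mod (4 * i + j) 16) 4 = i ∧ Nat.mod (4 * i + j) 4 = j ∧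
    Nat.blt (4 * i + j) 16 = true) ∧ Nat.div (Nat.mod (16 + (4 * i + j)) 16) 4 = i ∧
    Nat.mod (16 + (4 * i + j)) 4 = j ∧ Nat.blt (16 + (4 * i + j)) 16 = false := by
  revert i j; decide

theorem decC_mul (h : ι * ι = -1) (a b : ℕ) : decC ι (mulC a b) = decC ι a * decC ι b := by
  have h3 : (3 : F) = 0 := CharP.cast_eq_zero F 3
  ext i j
  have e := fun o p => ip_eq (R := F) (Equiv.refl _) a b o p i j
  rw [decC, decC, decC, mulC, frc_eq, frc_eq, add_mul, mul_add, mul_add]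
  simp only [Matrix.add_apply, smul_mul_assoc, mul_smul_comm, Matrix.smul_apply, smul_eq_mul, ← e]
  rw [decO_pk _ (by norm_num), decO_pk _ (by norm_num)]
  simp only [Equiv.refl_apply, frc_eq, zero_add]
  simp only [ix4, cond_true, cond_false, Nat.add_eq, Nat.mul_eq, zero_add]
  push_cast
  linear_combination (ip 4 a b (16 + 4 * i) (16 + j) : F) * (h3 - h)

theorem decC_adj (h : ι * ι = -1) (a : ℕ) : decC ι (adjC a) = ((decC ι a).map (· ^ 3))ᵀ := by
  have h3 : (3 : F) = 0 := CharP.cast_eq_zero F 3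
  ext i j
  rw [decC, adjC, frc_eq, Matrix.add_apply, Matrix.smul_apply, decO_pk _ (by norm_num), decO_pk _ (by norm_num)]
  simp only [Equiv.refl_apply, frc_eq, zero_add]
  simp only [ix4, cond_true, cond_false, Nat.add_eq, Nat.mul_eq, transpose_apply,
    Matrix.map_apply, decC, decO, Matrix.add_apply, Matrix.smul_apply, of_apply, smul_eq_mul, zero_add, Equiv.refl_apply]
  rw [← frobenius_def 3, map_add, map_mul, map_natCast, map_natCast, frobenius_def]
  push_cast
  linear_combination (ι * dgt a (16 + (4 * j + i))) * (h3 - h)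

omit [CharP F 3] in
theorem decC_apply (a : ℕ) (i j : Fin 4) : decC ι a i j = dgt a (4 * i + j) + ι * dgt a (16 + (4 * i + j)) := by
  simp [decC, decO]

omit [CharP F 3] in
theorem decC_sc (x y : ℕ) {a : ℕ} (h : ∀ i j : Fin 4, dgt a (4 * i + j) = (if i = j then x else 0) ∧
    dgt a (16 + (4 * i + j)) = if i = j then y else 0) : decC ι a = (x + ι * y) • 1 := by
  ext i j
  rw [decC_apply, (h i j).1, (h i j).2, Matrix.smul_apply, Matrix.one_apply]
  split_ifs <;> simp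

/-- the matrix of a unitary element -/
def suMat (F : Type*) [Field F] : Cfsg.SU 4 F 3 →* Matrix (Fin 4) (Fin 4) F := (Cfsg.slToMat 4 F).comp (Subgroup.subtype _)

theorem okC_spec (h : ι * ι = -1) (a : ℕ) (ha : okC a = true) : ∃ q, suMat F q = decC ι a := by
  have h3 : (3 : F) = 0 := CharP.cast_eq_zero F 3
  simp only [okC, AltE.forceN_eq, Bool.and_eq_true, Nat.beq_eq, beq_iff_eq] at ha
  obtain ⟨h1, h2, h4⟩ := ha
  replace h1 := congrArg (fun x => (decC ι x)ᵀ) h1
  simp only [decC_mul h, decC_adj h, transpose_mul, transpose_transpose] at h1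
  rw [show decC ι 1074791425 = 1 by simp [decC_sc 1 0 (a := 1074791425) (by decide +kernel)], transpose_one] at h1
  refine ⟨⟨⟨decC ι a, ?_⟩, fun u v => ?_⟩, rfl⟩
  · let φ := Zsqrtd.lift (d := -1) ⟨ι, by rw [h]; simp⟩
    have h5 : ∀ z : ℤ√(-1), φ z = z.re + z.im * ι := fun z => rfl
    have : det4 (decC ι a) = φ (det4 fun i j => ⟨dgt a (4 * i + j), dgt a (16 + (4 * i + j))⟩) := by
      simp only [det4, map_add, map_sub, map_mul]
      simp only [h5, decC_apply, Int.cast_natCast, mul_comm ι]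
    rw [det4_eq, this, h5, CharP.intCast_eq_intCast_mod F 3, CharP.intCast_eq_intCast_mod F 3 (a := Zsqrtd.im _)]
    simp [h2, h4]
  · have : ∀ u v : Fin 4 → F, Cfsg.hermForm 4 F 3 u v = u ⬝ᵥ (frobenius F 3 ∘ v) := fun _ _ => rfl
    change Cfsg.hermForm 4 F 3 (decC ι a *ᵥ u) (decC ι a *ᵥ v) = _
    rw [this, this, show frobenius F 3 ∘ _ = _ from funext (RingHom.map_mulVec (frobenius F 3) _ v), ← vecMul_transpose, ← dotProduct_mulVec,
      mulVec_mulVec]
    exact congrArg _ (h1 ▸ one_mulVec _)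

/-- the coded group -/
noncomputable def codC {G : Type*} [Group G] (h : ι * ι = -1) (θ : Cfsg.SU 4 F 3 →* G) : Cod G :=
  Cod.ofDec (f := suMat F) (fun _ _ e => Subtype.ext (Subtype.ext e)) θ (decC ι) mulC adjC okC (decC_mul h) (okC_spec h)

end CL.E83
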