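/-
`E₈(3)` has no subgroup `PSU₄(3)`.
-/
import Cfsg.Agent.KSG.E83.U43a

set_option autoImplicit false

namespace CL.E83
open Module Function Finset CL.SL2Wt CL.AltE Matrix Module.End

theorem killU {C : Cod G3} (hC : rawC = Cod.raw C.mul C.inv C.ok)
    (hZ : ∀ z ∈ zU, z.1 = false ∧ C.In z.2 ∧ C.el z.2 = 1) (n2 : C.el 1074792450 ≠ 1) (n5 : C.el 472889643295049040 ≠ 1) : False := by
  obtain ⟨ρ, D⟩ := exists_dat
  have h0 : (2 : K3) ≠ 0 := (exists_root 3 (n := 2) (by norm_num)).1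
  have c1 := chkU1
  have c2 := chkU2
  have c3 := chkU3
  have c4 := chkU4
  have c5 : ∀ a, rawC.ok a = true → C.In a := fun a h => C.in_ok a (by rwa [hC] at h)
  have c6 : rawC.mul 1234413201023648900 472889643295049040 = 1074791425 := by decide +kernel
  rw [hC] at c1 c2 c3 c4 c6
  simp only [← C.trs_raw] at c3 c4
  obtain ⟨c0, c, s1, s2, s3, s4⟩ := c2
  simp only [List.forall_mem_cons] at c s4
  obtain ⟨-, i1, e1⟩ := hZ _ List.mem_cons_self
  have hT := Cod.tr_one hZ ρ
  have a1 := Cod.sq_spec hZ c.1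
  have a2 := Cod.sq_spec hZ c.2.1
  have a3 := Cod.sq_spec hZ c.2.2.1
  have a4 := (Cod.sq_spec hZ c.2.2.2.1).trans e1
  have hc := fun l d (f : List ℤ) hf h => Cod.con_spec h0 i1 e1 hT (f := f) (t := fun j => Cod.T ρ (C.el (pU.getD j 0)))
    (l := l) (d := d) (fun x hx => (show f.length = pU.length from hf) ▸ Cod.ext_spec hZ ρ c0 x hx) (Cod.con_raw _ h)
  have b1 := hc _ _ _ rfl c1
  have b2 := hc _ _ _ rfl s3
  have b3 := hc _ _ _ rfl s4.1
  have b4 := hc _ _ _ rfl s4.2.1
  have b5 := hc _ _ _ rfl s4.2.2.1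
  simp only [List.length_cons, List.length_nil, sum_range_succ, range_zero, sum_empty, pU, List.getD_cons_succ,
    List.getD_cons_zero, show C.el 1074791425 = 1 from e1, T_one, show lU.length = 7 from rfl,
    show ∀ b, (lE b).length = 4 from fun _ => rfl] at b1 b2 b3 b4 b5
  have b6 := (by decide +kernel : ∀ x ∈ L8, ∀ y ∈ L8, x.2.2 ≠ 248 → y.2.1 = x.2.2 →
      0 ≤ 248 + 35 * x.2.2 + 20 * x.2.1 + 56 * y.1 + 16 * x.1 →
      (248 + 35 * x.2.2 + 20 * x.2.1 + 56 * y.1 + 16 * x.1) % 128 = 0 →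
      x.2.2 = -8 ∧ 248 + 35 * x.2.2 + 20 * x.2.1 + 56 * y.1 + 16 * x.1 ≠ 0) _
    (D.t8' a1 a2 a4 fun e => n2 (by rw [← a2, ← a1, e, one_pow, one_pow])) _
    (D.t8' a3 a4 (one_pow 2) fun e => n2 (by rw [← a3, e, one_pow]))
    ((by decide +kernel : ∀ x ∈ L8, x.1 ≠ 248) _ (D.t8' a4 (one_pow 2) (one_pow 2) n2) :) rfl
    (by simp only; omega) (by simp only; omega)
  simp only at b6
  have iE : ∀ i, C.In (eU i) := fun i => c5 _ (by revert i; decide +kernel)
  have iz : C.In 472889643295049040 := c5 _ (by decide +kernel)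
  have hE : ∀ b, C.Tr ρ (L4 (fun i => ρ (C.el (eU i))) b) (C.trs zU (lE b)) := fun b =>
    hT.trs (l := lE b) (by simp [lE, iE])
  have hσ : ∀ b, ∀ w ∈ L4 (fun i => ρ (C.el (eU i))) b, ρ (C.el 472889643295049040) w ∈ L4 (fun i => ρ (C.el (eU i))) (sU b) :=
    fun b w hw => mem_fixL.2 ⟨trivial, fun g hg => by
      obtain ⟨g, hk, rfl⟩ := List.mem_map.1 (show g ∈ (lE (sU b)).map (C.r ρ) from hg)
      clear hg
      have := Cod.rel_spec (hE b) (a := (false, 472889643295049040)) iz (c3 b g hk) w hw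
      rwa [show (Cod.raw C.mul C.inv C.ok).smul = C.smul from rfl, C.r_mul ρ (by revert g; simp [lE, iE]) iz] at this⟩
  have z5 : C.el 472889643295049040 ^ 5 = 1 := by
    rw [pow_succ, show 4 = 2 * 2 from rfl, pow_mul, Cod.sq_spec hZ c.2.2.2.2.1, Cod.sq_spec hZ c.2.2.2.2.2.1,
      ← C.el_mul _ _ (c5 _ (by decide +kernel)) iz]
    exact (congrArg C.el c6).trans e1
  have hf := fun ζ (h : ζ ≠ 0) => frob_le h0 (g := fun i => ρ (C.el (eU i))) (fun i j => LinearMap.ext fun w => by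
      simpa [Cod.r, sg, Cod.raw, C.el_mul, iE] using
        (Cod.rel_spec hT (a := (false, C.mul (eU i) (eU j))) (C.in_mul _ _ (iE i) (iE j)) (s2 i j) w trivial).symm)
    (fun i => (map_mul ρ _ _).symm.trans ((congrArg ρ ((sq _).symm.trans ((Cod.sq_spec hZ (s1 i)).trans e1))).trans
      (map_one ρ))) (by decide) hσ (o := (false, false, false, false))
    (a := (false, false, false, true)) (b := (false, false, true, true)) (c := (false, true, false, false)) (by decide) h
  rw [show ∀ b, fixL ⊤ ((lE b).map (C.r ρ)) = L4 (fun i => ρ (C.el (eU i))) b from fun _ => rfl] at b2 b3 b4 b5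
  have hW := hσ (false, false, false, false)
  rw [show sU (false, false, false, false) = (false, false, false, false) from rfl] at hW
  set W := L4 (fun i => ρ (C.el (eU i))) (false, false, false, false)
  obtain ⟨ζ, hζ⟩ := (exists_root 3 (n := 5) (by norm_num)).2
  have f1 := sum_eig_le (ρ (C.el 472889643295049040)) (μ := fun k : Fin 5 => ζ ^ k.1) (fun i j e => Fin.ext (hζ.pow_inj i.2 j.2 e)) W
  have f2 : (ρ (C.el 472889643295049040)).eigenspace 1 ⊓ W = ⊥ := by
    have f3 := fun k : Fin 4 => hf (ζ ^ (k.1 + 1)) (pow_ne_zero _ (hζ.ne_zero (by norm_num)))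
    have f4 := hf 1 one_ne_zero
    have f5 := Submodule.finrank_mono (inf_le_right : (ρ (C.el 472889643295049040)).eigenspace 1 ⊓ W ≤ W)
    have f6 := ((D.f5 _ z5 ζ hζ).resolve_left n5).resolve_left (by omega)
    simp only [f6] at f3
    rw [Fin.sum_univ_succ, Fin.val_zero, pow_zero] at f1
    simp only [Fin.sum_univ_succ, Fin.forall_fin_succ, Fin.val_succ, Fin.val_zero, univ_eq_empty, sum_empty] at f1 f3
    exact Submodule.finrank_eq_zero.1 (by omega)
  obtain ⟨v, hv, v0⟩ := Submodule.exists_mem_ne_zero_of_ne_bot (p := fixL ⊤ (lU.map (C.r ρ))) fun e => by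
    rw [e, finrank_bot] at b1
    omega
  have hP := hT.trs (l := lU) fun g hg => c5 _ (by revert g; decide +kernel)
  have f3 : ∀ c ∈ cU, (c.2.2.map fun j => ρ (C.el (qU.getD j 0)) v).sum = 0 := fun c hc => by
    obtain ⟨d1, d2, d3, d4, d5⟩ := c4 c hc
    have d6 : ρ (C.el c.2.1) v ∈ W := mem_fixL.2 ⟨trivial, by
      have := fun i => Cod.rel_spec hP (a := (false, c.2.1)) (C.in_ok _ d2) (d4 i) v hv
      simp only [Cod.r, sg, Cod.raw, C.el_mul _ _ (iE _) (C.in_ok _ d2), map_mul] at this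
      simpa [sg] using ⟨this 0, this 1, this 2, this 3⟩⟩
    rw [Cod.orbA_spec hP hv (C.in_ok _ d1) iz (C.in_ok _ d2) d5, d3, (Submodule.eq_bot_iff _).1 f2 (∑ k ∈ range 5, _)
      ⟨mem_eigenspace_iff.2 ?_, sum_mem fun k hk => ?_⟩, map_zero]
    · rw [map_sum]
      simp only [← End.mul_apply (ρ (C.el 472889643295049040)), ← pow_succ']
      rw [sum_range_succ, ← map_pow, z5, map_one, one_smul, sum_range_succ' _ 4, pow_zero]
    · clear hk
      induction k with
      | zero => exact d6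
      | succ k ih => rw [pow_succ', End.mul_apply]; exact hW _ ih
  have f4 := Cod.count3 K3 (x := fun j => ρ (C.el (qU.getD j 0)) v) (l := (cU ++ cU.take 6).flatMap (·.2.2)) (by
    rw [List.map_flatMap, List.flatMap_def, List.sum_flatten, List.map_map]
    exact List.sum_eq_zero (by
      simp only [List.mem_map, List.mem_append]
      rintro _ ⟨c, hc | hc, rfl⟩
      exacts [f3 c hc, f3 c (List.mem_of_mem_take hc)])) (by decide +kernel) (by decide +kernel)
  exact v0 (by simpa [qU, show C.el 1074791425 = 1 from e1] using f4)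

theorem noU43 {F : Type*} [Field F] [Fintype F] (h : Fintype.card F = 9) (H : Subgroup G3) :
    IsEmpty (H ≃* Cfsg.PSU 4 F 3) := ⟨fun e => by
  obtain ⟨θ, hθ⟩ := exists_theta _ H e
  have : CharP F 3 := charP_of_card_eq_prime_pow (f := 2) h
  obtain ⟨ι, hι⟩ := FiniteField.isSquare_neg_one_iff.2 (by rw [h]; decide : Fintype.card F % 4 ≠ 3)
  have h1 : ∀ x y a, okC a = true → (∀ i j : Fin 4, dgt a (4 * i + j) = (if i = j then x else 0) ∧
      dgt a (16 + (4 * i + j)) = if i = j then y else 0) → (codC hι.symm θ).In a ∧ (codC hι.symm θ).el a = 1 :=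
    fun x y a h1 h2 => ⟨okC_spec hι.symm a h1, (Cod.ofDec_one hθ h1).2 fun q => by simp [decC_sc x y h2]⟩
  have h2 : ∀ a w, okC a = true → okC w = true → dgt (mulC w a) 19 = 0 ∧ dgt (mulC a w) 19 = 0 ∧
      dgt (mulC w a) 3 % 3 ≠ dgt (mulC a w) 3 % 3 → (codC hι.symm θ).el a ≠ 1 := fun a w h1 h2 h3 h4 => by
    obtain ⟨q, hq⟩ := okC_spec hι.symm w h2
    have := congrFun₂ ((Cod.ofDec_one hθ h1).1 h4 q) 0 3
    rw [hq, ← decC_mul hι.symm, ← decC_mul hι.symm, decC_apply, decC_apply] at this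
    exact h3.2.2 ((CharP.natCast_eq_natCast F 3).1 (by simpa [h3.1, h3.2.1] using this))
  refine killU (C := codC hι.symm θ) (Cod.ofDec_raw ..) ?_ (h2 _ 17043520 (by decide +kernel) (by decide +kernel)
    (by decide +kernel)) (h2 _ 433911612534579360 (by decide +kernel) (by decide +kernel) (by decide +kernel))
  simp only [zU, List.forall_mem_cons, List.not_mem_nil, IsEmpty.forall_iff, implies_true, and_true, true_and]
  exact ⟨h1 1 0 _ (by decide +kernel) (by decide +kernel), h1 0 1 _ (by decide +kernel) (by decide +kernel),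
    h1 2 0 _ (by decide +kernel) (by decide +kernel), h1 0 2 _ (by decide +kernel) (by decide +kernel)⟩⟩

end CL.E83
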